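import Groth.Agent.NumTrivLib.Num
import Groth.Agent.HilbPolyLib.BaseField
import Groth.Agent.AmpleDevLib.Components

/-!
# Ampleness of twists, descent and extension of the field
-/

set_option autoImplicit false
set_option linter.style.haveILetI false
set_option maxHeartbeats 1000000
universe u

open CategoryTheory CategoryTheory.Limits AlgebraicGeometry TopologicalSpace Opposite
open HilbPolyLib DevissLib IntMultLib IntFunLib
open KFlatLib (pb)

noncomputable section

namespace NumTrivLib

variable {k : Type u} [Field k] {X : Scheme.{u}} [X.Over (Spec (CommRingCat.of k))]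
  [IsProper (X ↘ Spec (CommRingCat.of k))]

/-- Numerical triviality descends along surjections of proper schemes. -/
theorem NT.descend {Y : Scheme.{u}} [Y.Over (Spec (CommRingCat.of k))] [IsProper (Y ↘ Spec (CommRingCat.of k))]
    {g : Y ⟶ X} (hg : g ≫ (X ↘ Spec (CommRingCat.of k)) = Y ↘ Spec (CommRingCat.of k)) [Surjective g]
    {L : X.Modules} (hL : PicF.IsInvertible L) (h : NT k (pb g L)) : NT k L := by
  refine ⟨hL, fun C hi hC => ?_⟩
  haveI := hi
  haveI := CurvLib.isNoetherian k (X := X)
  rw [eq_ptIdeal C, ← N_singleton]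
  let η := C.subschemeι (genericPoint C.subscheme)
  change N k [L] (Fpt η) = 0
  have hη : topologicalKrullDim (closure ({η} : Set X)) = ((1 : ℕ) : WithBot ℕ∞) := by
    rw [Nat.cast_one, ← hC]; exact dim_generic_of_support C
  obtain ⟨x, hx, hxd⟩ := exists_point_over hg η (Surjective.surj η)
  rw [hη] at hxd
  have hl : ∀ A ∈ [L], PicF.IsInvertible A := by simpa using hL
  haveI := isProper_g hg
  have hsx : topologicalKrullDim (CohB1.support (Fpt x)) ≤ (([L] : List X.Modules).length : ℕ) := by
    rw [supp_Fpt k, hxd]; rfl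
  have h0 : N k [pb g L] (Fpt x) = 0 := N_cons_zero h (l := []) (by simp) (coh_Fpt k x) (by
    rw [supp_Fpt k, hxd]; rfl)
  rw [show [pb g L] = List.map (pb g) [L] from rfl, N_push hg hl (coh_Fpt k x) hsx] at h0
  have hc : Coh.IsCoh ((Coh.push g).obj (Fpt x)) := FormalCohLib.isCoh_push_proper g (coh_Fpt k x)
  have hs := support_push_closure hg x
  rw [hx] at hs
  have hmem : η ∈ CohB1.support ((Coh.push g).obj (Fpt x)) := hx ▸ mem_support_push hg x
  obtain ⟨T, hT, hfin, hsum⟩ := N_sum (k := k) hl hc ⟨η, hmem⟩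
    ((dim_mono hs).trans hη.le)
  have hT' : T = {η} := Finset.ext fun y => by
    rw [hT, Finset.mem_singleton]
    refine ⟨fun ⟨hy, hyd⟩ => ?_, fun hy => by subst hy; exact ⟨hmem, hη⟩⟩
    exact (eq_of_specializes_of_dim isClosed_closure hη.le hyd (subset_closure rfl)
      (specializes_iff_mem_closure.mpr (hs hy))).symm
  rw [hsum, hT', Finset.sum_singleton] at h0
  refine (smul_eq_zero.mp h0).resolve_left fun h => ?_
  rcases ENat.toNat_eq_zero.mp h with h | h
  · exact hmem (Module.length_eq_zero_iff.mp h)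
  · exact hfin η (hT' ▸ Finset.mem_singleton_self η) h

theorem cd_pos_of_isAmple {A : X.Modules} (hA : CohB1.IsAmple A) {C : X.IdealSheafData} (hi : IsIntegral C.subscheme)
    (hC : topologicalKrullDim (C.support : Set X) = 1) : 0 < cd k A C := by
  haveI := hi
  rw [eq_ptIdeal C, ← N_singleton]
  exact N_ample_pos (d := 1) hA (by rw [dim_generic_of_support C, hC, Nat.cast_one])

/-- Twists of an ample module by all multiples being ample forces numerical triviality. -/
theorem NT.of_ample_twists {H L L' : X.Modules} (hH : CohB1.IsAmple H) (hL : PicF.IsInvertible L)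
    (e : CohB1.tensorMod L L' ≅ Coh.structureModule X)
    (h : ∀ m : ℕ, CohB1.IsAmple (CohB1.tensorMod (CohB1.tensorPow L m) H) ∧
      CohB1.IsAmple (CohB1.tensorMod (CohB1.tensorPow L' m) H)) : NT k L := by
  have hL' := IntMultLib.isInvertible_of_inverse hL e
  refine ⟨hL, fun C hi hC => ?_⟩
  have hsum := cd_tensor (k := k) hL hL' hC
  rw [cd_congr e, cd_unit] at hsum
  have key : ∀ A : X.Modules, PicF.IsInvertible A →
      (∀ m : ℕ, CohB1.IsAmple (CohB1.tensorMod (CohB1.tensorPow A m) H)) → 0 ≤ cd k A C := by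
    intro A hA hAm
    by_contra hneg
    push Not at hneg
    have h1 := cd_pos_of_isAmple (k := k) (hAm ((cd k H C).toNat + 1)) hi hC
    rw [cd_tensor (AmpleThLib.tensorPow_isInvertible hA _) hH.1 hC, cd_pow hA hC] at h1
    have h2 : ((((cd k H C).toNat + 1 : ℕ) : ℤ)) * cd k A C ≤ ((((cd k H C).toNat + 1 : ℕ) : ℤ)) * (-1) :=
      mul_le_mul_of_nonneg_left (by omega) (by positivity)
    have := Int.self_le_toNat (cd k H C)
    push_cast at h1 h2
    omega
  have := key L hL fun m => (h m).1
  have := key L' hL' fun m => (h m).2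
  omega

/-- All twists of an ample module by a numerically trivial one are ample. -/
theorem NT.isAmple_twist {L H : X.Modules} (hL : NT k L) (hH : CohB1.IsAmple H) (m : ℕ) :
    CohB1.IsAmple (CohB1.tensorMod (CohB1.tensorPow L m) H) := by
  rcases Nat.eq_zero_or_pos m with rfl | hm
  · exact AmpleDevLib.isAmple_of_iso hH.1 (isInvertible_tensor CurvLib.isInvertible_structureModule hH.1)
      (unitLeft H).symm hH
  · have h := isAmple_nef_add hL.inv hL.nef hH (p := 1) hm one_pos
    exact AmpleDevLib.isAmple_of_iso h.1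
      (isInvertible_tensor (AmpleThLib.tensorPow_isInvertible hL.inv m) hH.1)
      (congrRight _ (unitLeft H)) h

section Field

variable (E : Type u) [Field E] [Algebra k E]

attribute [local instance] HilbPolyLib.bcOver

instance isProper_bc : IsProper ((Curv2.bc k X E) ↘ Spec (CommRingCat.of E)) :=
  MorphismProperty.pullback_snd _ _ inferInstance

/-- Numerical triviality goes up along field extensions. -/
theorem NT.bc {L : X.Modules} (hL : NT k L) : NT E (pb (Curv2.bcFst k X E) L) := by
  haveI := CurvLib.isNoetherian k (X := X)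
  obtain ⟨n, X', π, j, hj, hjb, hπ, hsurj, -⟩ := ChowLib.chow_all (X ↘ Spec (CommRingCat.of k))
  haveI := hπ
  haveI : IsProper (j ≫ CohB1.ProjSpaceOver.toBase n (Spec (CommRingCat.of k))) := by
    rw [hjb]; infer_instance
  let f := j ≫ CohB1.ProjSpaceOver.toBase n (Spec (CommRingCat.of k))
  let U := f ⁻¹ᵁ (⊤ : (Spec (CommRingCat.of k)).Opens)
  have hamp := PnCohLib.isAmple_twist_restrict (i := j) (W := (⊤ : (Spec (CommRingCat.of k)).Opens))
    (isAffineOpen_top _)
  haveI : IsIso U.ι := by exact (inferInstance : IsIso X'.topIso.hom)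
  haveI := hsurj
  let g : U.toScheme ⟶ X := U.ι ≫ π
  haveI : Surjective g := inferInstance
  letI : U.toScheme.Over (Spec (CommRingCat.of k)) := ⟨g ≫ (X ↘ Spec (CommRingCat.of k))⟩
  haveI : IsProper (U.toScheme ↘ Spec (CommRingCat.of k)) :=
    inferInstanceAs (IsProper (g ≫ (X ↘ Spec (CommRingCat.of k))))
  have hg : g ≫ (X ↘ Spec (CommRingCat.of k)) = U.toScheme ↘ Spec (CommRingCat.of k) := rfl
  let gE : Curv2.bc k U.toScheme E ⟶ Curv2.bc k X E :=
    pullback.map _ _ _ _ g (𝟙 _) (𝟙 _) ((Category.comp_id _).trans hg.symm) (by simp)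
  have hgE : gE ≫ (Curv2.bc k X E ↘ Spec (CommRingCat.of E)) = Curv2.bc k U.toScheme E ↘ Spec (CommRingCat.of E) :=
    (pullback.lift_snd _ _ _).trans (Category.comp_id _)
  have hfst : gE ≫ Curv2.bcFst k X E = Curv2.bcFst k U.toScheme E ≫ g := pullback.lift_fst _ _ _
  have hsq : IsPullback (Curv2.bcFst k U.toScheme E) gE g (Curv2.bcFst k X E) := by
    refine IsPullback.of_bot ?_ hfst.symm (IsPullback.of_hasPullback _ _)
    rw [show gE ≫ Curv2.bcSnd k X E = Curv2.bcSnd k U.toScheme E from hgE, hg]
    exact IsPullback.of_hasPullback _ _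
  haveI : Surjective gE := MorphismProperty.of_isPullback hsq inferInstance
  have hM : NT E (pb (Curv2.bcFst k U.toScheme E) (pb g L)) := by
    have hLU := hL.pullback hg
    obtain ⟨ei⟩ := MiscFlat6.nonempty_dualIso hLU.inv
    have hLU' := hLU.inverse ei
    let c := Curv2.bcFst k U.toScheme E
    have hI := AmpleDevLib.isInvertible_pb c hLU.inv
    obtain ⟨q⟩ := nonempty_pb_tensor c (pb g L) (MiscFlat6.dual (pb g L))
    refine NT.of_ample_twists (H := pb c _) (isAmple_bc (k := k) E hamp) hI
      (q ≪≫ (Scheme.Modules.pullback c).mapIso ei ≪≫ KFlatLib.pullUnitIso c) fun m => ?_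
    have key : ∀ A : U.toScheme.Modules, NT k A → ∀ H : U.toScheme.Modules, CohB1.IsAmple H →
        CohB1.IsAmple (CohB1.tensorMod (CohB1.tensorPow (pb c A) m) (pb c H)) := fun A hA H hH => by
      obtain ⟨φ, -⟩ := AmpleDevLib.exists_pullPowIso c hA.inv m
      obtain ⟨q'⟩ := nonempty_pb_tensor c (CohB1.tensorPow A m) H
      have hh := isAmple_bc (k := k) E (hA.isAmple_twist hH m)
      exact AmpleDevLib.isAmple_of_iso hh.1
        (isInvertible_tensor (AmpleThLib.tensorPow_isInvertible (AmpleDevLib.isInvertible_pb c hA.inv) m)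
          (AmpleDevLib.isInvertible_pb c hH.1))
        (q'.symm ≪≫ congrLeft φ _) hh
    exact ⟨key _ hLU _ hamp, key _ hLU' _ hamp⟩
  refine NT.descend hgE (AmpleDevLib.isInvertible_pb _ hL.inv) (hM.iso ?_)
  exact (Scheme.Modules.pullbackComp _ _).app L ≪≫ (Scheme.Modules.pullbackCongr hfst.symm).app L ≪≫
    ((Scheme.Modules.pullbackComp _ _).app L).symm

/-- Numerical triviality comes down along field extensions. -/
theorem NT.of_bc {L : X.Modules} (hL : PicF.IsInvertible L) (h : NT E (pb (Curv2.bcFst k X E) L)) :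
    Pic13.IsNumEquivZero k X L := by
  refine isNumEquivZero_of_Φ hL fun F hF => ?_
  haveI := CurvLib.isNoetherian k (X := X)
  let p := Curv2.bcFst k X E
  haveI := CurvLib.isNoetherian E (X := Curv2.bc k X E)
  have h0 := Φ_eq_zero h (ConsLib.isCoh_pullback p hF)
  obtain ⟨q⟩ := nonempty_pb_tensor p L F
  rw [Φ, CurvLib.euler_congr q] at h0
  rw [Φ, ← HilbPolyLib.euler_bc E hF.1, ← HilbPolyLib.euler_bc E (isCoh_tensor hL hF).1]
  exact h0

end Field

end NumTrivLib

end
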