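import Groth.Agent.NumTrivLib.Main

/-!
# Numerical equivalence to zero and Euler characteristics
-/

set_option autoImplicit false
set_option linter.style.haveILetI false
set_option maxHeartbeats 1000000
universe u

open CategoryTheory CategoryTheory.Limits AlgebraicGeometry TopologicalSpace Opposite
open HilbPolyLib DevissLib IntMultLib IntFunLib
open KFlatLib (pb)

noncomputable section

namespace NumTrivLib

variable {k : Type u} [Field k] {X : Scheme.{u}} [X.Over (Spec (CommRingCat.of k))]
  [IsProper (X ↘ Spec (CommRingCat.of k))]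

/-- Invariant modules are numerically equivalent to zero. -/
theorem isNumEquivZero_of_Φ {L : X.Modules} (hL : PicF.IsInvertible L)
    (h : ∀ F : X.Modules, Coh.IsCoh F → Φ k L F = 0) : Pic13.IsNumEquivZero k X L := by
  intro Y g _ hY hdim
  haveI := CurvLib.isNoetherian k (X := X)
  letI : Y.Over (Spec (CommRingCat.of k)) := ⟨g ≫ (X ↘ Spec (CommRingCat.of k))⟩
  haveI : IsProper (Y ↘ Spec (CommRingCat.of k)) := inferInstanceAs (IsProper (g ≫ (X ↘ Spec (CommRingCat.of k))))
  have hd : topologicalKrullDim Y ≤ ((1 : ℕ) : WithBot ℕ∞) := by rw [hdim, Nat.cast_one]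
  have hP := CurvLib.isCoh_of_isInvertible (AmpleDevLib.isInvertible_pb g hL)
  haveI := hP.1
  haveI := (DevissLib.isCoh_structureModule Y).1
  show FGA.eulerCharLE k Y (pb g L) 1 - FGA.eulerCharLE k Y (Coh.structureModule Y) 1 = 0
  rw [eulerCharLE_eq hd, eulerCharLE_eq hd]
  obtain ⟨p⟩ := nonempty_proj g (Coh.structureModule Y) hL
  have h0 := h _ (QCohLib.isCoh_push_finite g _ (DevissLib.isCoh_structureModule Y))
  rw [Φ, CurvLib.euler_congr (p ≪≫ (Coh.push g).mapIso (swapIso _ _ ≪≫ unitLeft (pb g L))),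
    ← (PushLinLib.euler_push k g rfl (pb g L)).2, ← (PushLinLib.euler_push k g rfl (Coh.structureModule Y)).2] at h0
  exact h0

theorem NT.isNumEquivZero {L : X.Modules} (hL : NT k L) : Pic13.IsNumEquivZero k X L :=
  isNumEquivZero_of_Φ hL.inv fun _ hF => Φ_eq_zero hL hF

theorem isNumEquivZero_iff {L : X.Modules} (hL : PicF.IsInvertible L) :
    Pic13.IsNumEquivZero k X L ↔ ∀ F : X.Modules, Coh.IsCoh F → Φ k L F = 0 :=
  ⟨fun h _ hF => Φ_eq_zero (NT.of_isNumEquivZero hL h) hF, isNumEquivZero_of_Φ hL⟩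

end NumTrivLib

end
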