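import Groth.Agent.NumTrivLib.Near
import Groth.Agent.S4698
import Groth.Agent.DevissLib.ClosedImm
import Groth.Agent.DvrProperLib.Closure
import Groth.Agent.RichLib.ModFlatGlobal
import Groth.Agent.CubeConsLib.IsoCls
import Groth.Agent.ConsLib.ModLoci
import Groth.Agent.IntMultLib.Positive

/-!
# A bounded sequence of powers forces τ-triviality
-/

set_option autoImplicit false
set_option linter.style.haveILetI false
set_option maxHeartbeats 1000000
universe u

open CategoryTheory CategoryTheory.Limits AlgebraicGeometry TopologicalSpace Opposite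
open KFlatLib (pb)
open CubeConsLib (cl cl_eq_iff cl_tensor)

noncomputable section

namespace NumTrivLib

theorem cl_tensorPow {X : Scheme.{u}} (L : X.Modules) : ∀ m : ℕ, cl (CohB1.tensorPow L m) = cl L ^ m
  | 0 => (pow_zero _).symm
  | m + 1 => by rw [CohB1.tensorPow, cl_tensor, cl_tensorPow L m, pow_succ]

theorem nonempty_cancel {X : Scheme.{u}} {L L' : X.Modules} (e : CohB1.tensorMod L L' ≅ Coh.structureModule X)
    {a b : ℕ} (h : a ≤ b) :
    Nonempty (CohB1.tensorMod (CohB1.tensorPow L b) (CohB1.tensorPow L' a) ≅ CohB1.tensorPow L (b - a)) := by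
  rw [← cl_eq_iff, cl_tensor, cl_tensorPow, cl_tensorPow, cl_tensorPow]
  have h1 : cl L * cl L' = 1 := (cl_tensor L L').symm.trans (CubeConsLib.cl_eq_one_iff.2 ⟨e⟩)
  calc cl L ^ b * cl L' ^ a = cl L ^ (b - a) * (cl L * cl L') ^ a := by
        rw [mul_pow, ← mul_assoc, ← pow_add, Nat.sub_add_cancel h]
    _ = cl L ^ (b - a) := by rw [h1, one_pow, mul_one]

variable (k : Type u) [Field k] (X : Scheme.{u}) [X.Over (Spec (CommRingCat.of k))]
  [IsProper (X ↘ Spec (CommRingCat.of k))]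

/-- The map of products. -/
def prodMap {S T : Scheme.{u}} (e : S ⟶ T) (q : T ⟶ Spec (CommRingCat.of k)) :
    Pic13.prodK k X (e ≫ q) ⟶ Pic13.prodK k X q :=
  pullback.map _ _ _ _ (𝟙 X) e (𝟙 _) (by simp) (by simp)

theorem slice_prodMap {S T : Scheme.{u}} (e : S ⟶ T) (q : T ⟶ Spec (CommRingCat.of k))
    (s : Spec (CommRingCat.of k) ⟶ S) (hs : s ≫ e ≫ q = 𝟙 _) (t : Spec (CommRingCat.of k) ⟶ T) (ht : t ≫ q = 𝟙 _)
    (h : s ≫ e = t) : Pic13.sliceAt k X (e ≫ q) s hs ≫ prodMap k X e q = Pic13.sliceAt k X q t ht := by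
  apply pullback.hom_ext
  · rw [Category.assoc, prodMap, pullback.lift_fst, Category.comp_id, Pic13.sliceAt, Pic13.sliceAt,
      pullback.lift_fst, pullback.lift_fst]
  · rw [Category.assoc, prodMap, pullback.lift_snd, Pic13.sliceAt, Pic13.sliceAt, pullback.lift_snd_assoc,
      pullback.lift_snd, Category.assoc, h]

/-- Restriction of members. -/
theorem nonempty_fibreMod_prodMap {S T : Scheme.{u}} (e : S ⟶ T) (q : T ⟶ Spec (CommRingCat.of k))
    (s : Spec (CommRingCat.of k) ⟶ S) (hs : s ≫ e ≫ q = 𝟙 _) (t : Spec (CommRingCat.of k) ⟶ T) (ht : t ≫ q = 𝟙 _)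
    (h : s ≫ e = t) (F : (Pic13.prodK k X q).Modules) :
    Nonempty (Pic13.fibreMod k X (e ≫ q) s hs (pb (prodMap k X e q) F) ≅ Pic13.fibreMod k X q t ht F) :=
  ⟨(Scheme.Modules.pullbackComp _ _).app F ≪≫
    (Scheme.Modules.pullbackCongr (slice_prodMap k X e q s hs t ht h)).app F⟩

/-- Infinitely many members lie in one flat family over an integral base. -/
theorem exists_flat_piece {T : Scheme.{u}} (q : T ⟶ Spec (CommRingCat.of k)) [LocallyOfFiniteType q] [QuasiCompact q]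
    (F : (Pic13.prodK k X q).Modules) (hF : Coh.IsCoh F) (t : ℕ → (Spec (CommRingCat.of k) ⟶ T)) :
    ∃ (S : Scheme.{u}) (e : S ⟶ T), IsIntegral S ∧ LocallyOfFiniteType e ∧ QuasiCompact e ∧
      FlatMod.IsFlatOver (pullback.snd (X ↘ Spec (CommRingCat.of k)) (e ≫ q)) (pb (prodMap k X e q) F) ∧
      {m : ℕ | ∃ s : Spec (CommRingCat.of k) ⟶ S, s ≫ e = t m}.Infinite := by
  classical
  haveI : IsLocallyNoetherian T := LocallyOfFiniteType.isLocallyNoetherian q
  haveI : CompactSpace T := QuasiCompact.compactSpace_of_compactSpace q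
  haveI : IsNoetherian T := {}
  let pt : Spec (CommRingCat.of k) := default
  let τ : ℕ → T := fun m => t m pt
  let A : Set (Closeds T) := {Y | {m | τ m ∈ (Y : Set T)}.Infinite}
  obtain ⟨Y, hY, hmin⟩ := wellFounded_lt.has_min A ⟨⊤, Set.infinite_univ.mono fun m _ => trivial⟩
  have hirr : IsIrreducible (Y : Set T) := by
    refine ⟨?_, isPreirreducible_iff_isClosed_union_isClosed.mpr fun z₁ z₂ h₁ h₂ hsub => ?_⟩
    · obtain ⟨m, hm⟩ := hY.nonempty
      exact ⟨_, hm⟩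
    by_contra hcon
    push Not at hcon
    have key : ∀ z : Set T, IsClosed z → ¬ (Y : Set T) ⊆ z → {m | τ m ∈ (Y : Set T) ∩ z}.Finite := fun z hz hn => by
      by_contra hinf
      refine hmin ⟨Y ∩ z, Y.isClosed.inter hz⟩ hinf (lt_of_le_of_ne Set.inter_subset_left fun h => hn ?_)
      exact fun y hy => ((congrArg SetLike.coe h).ge hy).2
    exact hY (((key z₁ h₁ hcon.1).union (key z₂ h₂ hcon.2)).subset fun m hm => by
      rcases hsub hm with h | h
      · exact Or.inl ⟨hm, h⟩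
      · exact Or.inr ⟨hm, h⟩)
  obtain ⟨Z, j, hj, hZ, hr⟩ := DevissLib.exists_integral_closed Y.isClosed hirr
  haveI := hj
  haveI := hZ
  haveI : IsLocallyNoetherian Z := LocallyOfFiniteType.isLocallyNoetherian j
  haveI : IsLocallyNoetherian (Pic13.prodK k X q) := LocallyOfFiniteType.isLocallyNoetherian (pullback.snd _ q)
  let a := X ↘ Spec (CommRingCat.of k)
  let gZ := prodMap k X j q
  obtain ⟨U, ⟨z₀, hz₀⟩, hU⟩ := Groth.Agent.S4698.result (pullback.snd a (j ≫ q)) (pb gZ F)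
    (ConsLib.isCoh_pullback gZ hF)
  let S := U.toScheme
  let e : S ⟶ T := U.ι ≫ j
  haveI : Nonempty S := ⟨⟨z₀, hz₀⟩⟩
  refine ⟨S, e, isIntegral_of_isOpenImmersion U.ι, inferInstance, inferInstance, ?_, ?_⟩
  · intro x
    let f' := pullback.snd a (e ≫ q)
    let jj : Pic13.prodK k X (e ≫ q) ⟶ Pic13.prodK k X (j ≫ q) :=
      pullback.map _ _ _ _ (𝟙 X) U.ι (𝟙 _) (by simp) (by simp [e])
    have hsq : IsPullback jj f' (pullback.snd a (j ≫ q)) U.ι := by
      refine IsPullback.of_right ?_ (pullback.lift_snd _ _ _) (IsPullback.of_hasPullback _ _)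
      rw [show jj ≫ pullback.fst a (j ≫ q) = pullback.fst a (e ≫ q) from
        (pullback.lift_fst _ _ _).trans (Category.comp_id _), show U.ι ≫ j ≫ q = e ≫ q from (Category.assoc _ _ _).symm]
      exact IsPullback.of_hasPullback _ _
    haveI : IsOpenImmersion jj := MorphismProperty.of_isPullback hsq.flip inferInstance
    have hx : (pullback.snd a (j ≫ q)) (jj x) ∈ U := by
      rw [show (pullback.snd a (j ≫ q)) (jj x) = U.ι (f' x) from congrArg (fun m => m.base x) hsq.w]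
      exact (f' x).2
    have h0 := hU (jj x) hx
    rw [← RichLib.ModFlat.isFlatOverAt_comp_source jj (pullback.snd a (j ≫ q)) (pb gZ F) x,
      hsq.w, RichLib.ModFlat.isFlatOverAt_comp_target f' U.ι] at h0
    have hcomp : jj ≫ gZ = prodMap k X e q := by
      apply pullback.hom_ext
      · simp only [jj, gZ, prodMap, Category.assoc, pullback.lift_fst, pullback.lift_fst_assoc, Category.comp_id]
      · simp only [jj, gZ, prodMap, e, Category.assoc, pullback.lift_snd, pullback.lift_snd_assoc]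
    exact (RichLib.ModFlat.isFlatOverAt_iso f' ((Scheme.Modules.pullbackComp jj gZ).app F ≪≫
      (Scheme.Modules.pullbackCongr hcomp).app F) x).mp h0
  · have hfin : {m | τ m ∈ j '' (U : Set Z)ᶜ}.Finite := by
      by_contra hinf
      refine hmin ⟨j '' (U : Set Z)ᶜ, j.isClosedEmbedding.isClosedMap _ U.isOpen.isClosed_compl⟩ hinf
        (lt_of_le_of_ne ((Set.image_subset_range _ _).trans hr.le) fun h => ?_)
      have : j z₀ ∈ j '' (U : Set Z)ᶜ := (congrArg SetLike.coe h).ge (hr.le ⟨z₀, rfl⟩)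
      obtain ⟨z, hz, hzz⟩ := this
      exact hz (j.isClosedEmbedding.injective hzz ▸ hz₀)
    refine (hY.diff hfin).mono fun m hm => ?_
    have hrange : Set.range (t m) ⊆ Set.range j := by
      rintro _ ⟨p, rfl⟩
      rw [Subsingleton.elim p pt, hr]
      exact hm.1
    have hk := DvrProperLib.ker_le_ker_of_range_subset j (t m) hrange
    let z := IsClosedImmersion.lift j (t m) hk
    have hz : z ≫ j = t m := IsClosedImmersion.lift_fac _ _ _
    have hzU : Set.range z ⊆ Set.range U.ι := by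
      rintro _ ⟨p, rfl⟩
      rw [Scheme.Opens.range_ι]
      by_contra hn
      refine hm.2 ⟨z p, hn, ?_⟩
      show j (z p) = t m pt
      rw [Subsingleton.elim p pt, ← hz]
      rfl
    exact ⟨IsOpenImmersion.lift U.ι z hzU, by rw [← Category.assoc, IsOpenImmersion.lift_fac, hz]⟩

/-- The locus where a module is free of rank one. -/
def freeLocus {P : Scheme.{u}} (F : P.Modules) : P.Opens :=
  sSup {U : P.Opens | Nonempty (F.restrict U.ι ≅ Coh.structureModule (U : Scheme.{u}))}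

omit [IsProper (X ↘ Spec (CommRingCat.of k))] [X.Over (Spec (CommRingCat.of k))] in
theorem isInvertible_pb_of_mem {Y P : Scheme.{u}} (g : Y ⟶ P) (F : P.Modules) (h : ∀ y, g y ∈ freeLocus F) :
    PicF.IsInvertible (pb g F) := fun y => by
  obtain ⟨U, hyU, ⟨u⟩⟩ : ∃ U : P.Opens, g y ∈ U ∧ Nonempty (F.restrict U.ι ≅ Coh.structureModule (U : Scheme.{u})) := by
    obtain ⟨U, hU, hyU⟩ := Opens.mem_sSup.1 (h y)
    exact ⟨U, hyU, hU⟩
  exact ⟨g ⁻¹ᵁ U, hyU, ⟨(Scheme.Modules.restrictFunctorIsoPullback (g ⁻¹ᵁ U).ι).app _ ≪≫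
      (Scheme.Modules.pullbackComp _ _).app F ≪≫
      (Scheme.Modules.pullbackCongr (morphismRestrict_ι g U).symm).app F ≪≫
      ((Scheme.Modules.pullbackComp _ _).app F).symm ≪≫
      (Scheme.Modules.pullback (g ∣_ U)).mapIso
        (((Scheme.Modules.restrictFunctorIsoPullback U.ι).app F).symm ≪≫ u) ≪≫
      KFlatLib.pullUnitIso _⟩⟩

/-- Points over a rational point lie on its slice. -/
theorem exists_slice_eq {S : Scheme.{u}} (qS : S ⟶ Spec (CommRingCat.of k)) (s : Spec (CommRingCat.of k) ⟶ S)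
    (hs : s ≫ qS = 𝟙 _) (p : Spec (CommRingCat.of k)) (y : Pic13.prodK k X qS)
    (hy : pullback.snd (X ↘ Spec (CommRingCat.of k)) qS y = s p) : ∃ x, Pic13.sliceAt k X qS s hs x = y := by
  have hsq := isPullback_slice k X qS s hs
  have : y ∈ Set.range (pullback.fst (pullback.snd (X ↘ Spec (CommRingCat.of k)) qS) s) := by
    rw [Scheme.Pullback.range_fst]
    exact ⟨p, hy.symm⟩
  obtain ⟨w, hw⟩ := this
  refine ⟨hsq.isoPullback.inv w, ?_⟩
  rw [← hw, ← hsq.isoPullback_inv_fst]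
  rfl

/-- The base open over which a module is free of rank one along the fibres. -/
def freeBase {S : Scheme.{u}} (qS : S ⟶ Spec (CommRingCat.of k)) (F : (Pic13.prodK k X qS).Modules) : S.Opens :=
  ⟨((pullback.snd (X ↘ Spec (CommRingCat.of k)) qS) '' ((freeLocus F : Set _))ᶜ)ᶜ,
    ((pullback.snd (X ↘ Spec (CommRingCat.of k)) qS).isClosedMap _ (freeLocus F).isOpen.isClosed_compl).isOpen_compl⟩

theorem mem_freeBase {S : Scheme.{u}} (qS : S ⟶ Spec (CommRingCat.of k)) (F : (Pic13.prodK k X qS).Modules)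
    (hfp : CohB1.IsFP F) [F.IsQuasicoherent] [IsLocallyNoetherian (Pic13.prodK k X qS)]
    (hfl : FlatMod.IsFlatOver (pullback.snd (X ↘ Spec (CommRingCat.of k)) qS) F) (s : Spec (CommRingCat.of k) ⟶ S)
    (hs : s ≫ qS = 𝟙 _) {L : X.Modules} (hL : PicF.IsInvertible L) (i : Pic13.fibreMod k X qS s hs F ≅ L)
    (p : Spec (CommRingCat.of k)) : s p ∈ freeBase k X qS F := by
  rintro ⟨y, hy, hys⟩
  obtain ⟨x, hx⟩ := exists_slice_eq k X qS s hs p y hys
  obtain ⟨U, hxU, hU⟩ := exists_nhd_invertible k X qS s hs F hfp hfl hL i x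
  exact hy (Opens.mem_sSup.2 ⟨U, hU, hx ▸ hxU⟩)

theorem isInvertible_freeBase {S : Scheme.{u}} (qS : S ⟶ Spec (CommRingCat.of k))
    (F : (Pic13.prodK k X qS).Modules) :
    PicF.IsInvertible (pb (prodMap k X (freeBase k X qS F).ι qS) F) := isInvertible_pb_of_mem _ _ fun y => by
  by_contra hn
  refine ((pullback.snd (X ↘ Spec (CommRingCat.of k)) _) y).2 ⟨prodMap k X (freeBase k X qS F).ι qS y, hn, ?_⟩
  exact congrArg (fun m => m.base y) (pullback.lift_snd (f := X ↘ Spec (CommRingCat.of k)) (g := qS) _ _ _)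

/-- Fibres of the normalised family. -/
theorem nonempty_fibre_norm {S₀ S : Scheme.{u}} (e₀ : S₀ ⟶ S) (qS : S ⟶ Spec (CommRingCat.of k))
    (F : (Pic13.prodK k X qS).Modules) (N L : X.Modules) (t₀ : Spec (CommRingCat.of k) ⟶ S₀)
    (h₀ : t₀ ≫ e₀ ≫ qS = 𝟙 _) (s : Spec (CommRingCat.of k) ⟶ S) (hs : s ≫ qS = 𝟙 _) (h : t₀ ≫ e₀ = s)
    (i : Pic13.fibreMod k X qS s hs F ≅ L) :
    Nonempty (Pic13.fibreMod k X (e₀ ≫ qS) t₀ h₀ (CohB1.tensorMod (pb (prodMap k X e₀ qS) F)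
      (pb (pullback.fst (X ↘ Spec (CommRingCat.of k)) (e₀ ≫ qS)) N)) ≅ CohB1.tensorMod L N) := by
  obtain ⟨i₀⟩ := nonempty_fibreMod_prodMap k X e₀ qS t₀ h₀ s hs h F
  haveI := KFlatLib.isIso_pullθ (Pic13.sliceAt k X (e₀ ≫ qS) t₀ h₀) (pb (prodMap k X e₀ qS) F)
    (pb (pullback.fst (X ↘ Spec (CommRingCat.of k)) (e₀ ≫ qS)) N)
  exact ⟨@asIso _ _ _ _ (KFlatLib.pullθ _ _ _) this ≪≫ HilbPolyLib.congrLeft (i₀ ≪≫ i) _ ≪≫
    HilbPolyLib.congrRight _ ((Scheme.Modules.pullbackComp _ _).app _ ≪≫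
      (Scheme.Modules.pullbackCongr (pullback.lift_fst _ _ _)).app _ ≪≫ (Scheme.Modules.pullbackId X).app _)⟩

/-- **Boundedness of the powers forces τ-triviality.** -/
theorem isTauEquivZero_of_bounded {L L' : X.Modules} (hL : PicF.IsInvertible L)
    (eL : CohB1.tensorMod L L' ≅ Coh.structureModule X) {P : X.Modules → Prop} (hb : Pic13.IsBounded k X P)
    (hP : ∀ m : ℕ, P (CohB1.tensorPow L m)) : Pic13.IsTauEquivZero k X L := by
  classical
  obtain ⟨T, q, hlft, hqc, F, hF, hmem⟩ := hb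
  haveI := hlft
  haveI := hqc
  choose t ht iso using fun m => hmem _ (hP m)
  obtain ⟨S, e, hS, hel, heq, hfl, hinf⟩ := exists_flat_piece k X q F hF t
  haveI := hS
  haveI := hel
  haveI := heq
  haveI : IsLocallyNoetherian (Pic13.prodK k X q) :=
    haveI : IsLocallyNoetherian T := LocallyOfFiniteType.isLocallyNoetherian q
    LocallyOfFiniteType.isLocallyNoetherian (pullback.snd (X ↘ Spec (CommRingCat.of k)) q)
  haveI : IsLocallyNoetherian S := LocallyOfFiniteType.isLocallyNoetherian (e ≫ q)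
  haveI : IsLocallyNoetherian (Pic13.prodK k X (e ≫ q)) :=
    LocallyOfFiniteType.isLocallyNoetherian (pullback.snd (X ↘ Spec (CommRingCat.of k)) (e ≫ q))
  have hFS : Coh.IsCoh (pb (prodMap k X e q) F) := ConsLib.isCoh_pullback _ hF
  haveI := hFS.1
  have hfp : CohB1.IsFP (pb (prodMap k X e q) F) := QCohLib.isFP_of_isCoh _ hFS
  let S₀ := freeBase k X (e ≫ q) (pb (prodMap k X e q) F)
  have hi : ∀ (m : ℕ) (s : Spec (CommRingCat.of k) ⟶ S), s ≫ e = t m → ∃ hs : s ≫ e ≫ q = 𝟙 _,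
      Nonempty (Pic13.fibreMod k X (e ≫ q) s hs (pb (prodMap k X e q) F) ≅ CohB1.tensorPow L m) := by
    intro m s hsm
    have hs : s ≫ e ≫ q = 𝟙 _ := by rw [← Category.assoc, hsm, ht m]
    obtain ⟨i⟩ := nonempty_fibreMod_prodMap k X e q s hs (t m) (ht m) hsm F
    exact ⟨hs, ⟨i ≪≫ (iso m).some⟩⟩
  have hgood : ∀ m : ℕ, ∀ s : Spec (CommRingCat.of k) ⟶ S, s ≫ e = t m →
      ∀ p : Spec (CommRingCat.of k), s p ∈ S₀ := by
    intro m s hsm p
    obtain ⟨hs, ⟨i⟩⟩ := hi m s hsm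
    exact mem_freeBase k X (e ≫ q) _ hfp hfl s hs (AmpleThLib.tensorPow_isInvertible hL m) i p
  obtain ⟨a₁, ⟨sa, hsa⟩, b₁, ⟨sb, hsb⟩, hab⟩ :
      ∃ a₁ ∈ {m : ℕ | ∃ s : Spec (CommRingCat.of k) ⟶ S, s ≫ e = t m},
      ∃ b₁ ∈ {m : ℕ | ∃ s : Spec (CommRingCat.of k) ⟶ S, s ≫ e = t m}, a₁ < b₁ := by
    obtain ⟨a₁, ha₁⟩ := hinf.nonempty
    obtain ⟨b₁, hb₁, hlt⟩ := hinf.exists_gt a₁
    exact ⟨a₁, ha₁, b₁, hb₁, hlt⟩
  have hrange : ∀ (m : ℕ) (s : Spec (CommRingCat.of k) ⟶ S), s ≫ e = t m → Set.range s ⊆ Set.range S₀.ι := by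
    rintro m s hsm _ ⟨p, rfl⟩
    rw [Scheme.Opens.range_ι]
    exact hgood m s hsm p
  haveI : Nonempty S₀.toScheme := ⟨⟨sa default, hgood a₁ sa hsa default⟩⟩
  haveI : IsIntegral S₀.toScheme := isIntegral_of_isOpenImmersion S₀.ι
  have hA : PicF.IsInvertible (pb (pullback.fst (X ↘ Spec (CommRingCat.of k)) (S₀.ι ≫ e ≫ q))
      (CohB1.tensorPow L' a₁)) :=
    AmpleDevLib.isInvertible_pb _ (AmpleThLib.tensorPow_isInvertible (IntMultLib.isInvertible_of_inverse hL eL) a₁)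
  have hfib : ∀ (m : ℕ) (s : Spec (CommRingCat.of k) ⟶ S) (hsm : s ≫ e = t m),
      ∃ (t₀ : Spec (CommRingCat.of k) ⟶ S₀.toScheme) (h₀ : t₀ ≫ S₀.ι ≫ e ≫ q = 𝟙 _),
        Nonempty (Pic13.fibreMod k X (S₀.ι ≫ e ≫ q) t₀ h₀
          (CohB1.tensorMod (pb (prodMap k X S₀.ι (e ≫ q)) (pb (prodMap k X e q) F))
            (pb (pullback.fst (X ↘ Spec (CommRingCat.of k)) (S₀.ι ≫ e ≫ q)) (CohB1.tensorPow L' a₁))) ≅
          CohB1.tensorMod (CohB1.tensorPow L m) (CohB1.tensorPow L' a₁)) := by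
    intro m s hsm
    obtain ⟨hs, ⟨i⟩⟩ := hi m s hsm
    have hl : IsOpenImmersion.lift S₀.ι s (hrange m s hsm) ≫ S₀.ι = s := IsOpenImmersion.lift_fac _ _ _
    exact ⟨_, by rw [← Category.assoc, hl, hs],
      nonempty_fibre_norm k X S₀.ι (e ≫ q) _ _ _ _ _ s hs hl i⟩
  obtain ⟨ta, hta, ⟨ia⟩⟩ := hfib a₁ sa hsa
  obtain ⟨tb, htb, ⟨ib⟩⟩ := hfib b₁ sb hsb
  obtain ⟨ca⟩ := nonempty_cancel eL (le_refl a₁)
  obtain ⟨cb⟩ := nonempty_cancel eL hab.le
  refine ⟨b₁ - a₁, Nat.sub_pos_of_lt hab, S₀.toScheme, S₀.ι ≫ e ≫ q, inferInstance, inferInstance, inferInstance, _,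
    HilbPolyLib.isInvertible_tensor (isInvertible_freeBase k X (e ≫ q) _) hA, tb, ta, htb, hta, ⟨ib ≪≫ cb⟩,
    ⟨ia ≪≫ ca ≪≫ eqToIso ?_⟩⟩
  rw [Nat.sub_self]
  rfl

end NumTrivLib

end
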