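import Groth.Agent.NumTrivLib.Num
import Groth.Agent.NumTrivLib.Tau
import Groth.Agent.NumTrivLib.Desc
import Groth.Agent.S4285
import Groth.Agent.QuotSchLib.FieldBounded

/-!
# Boundedness of numerically trivial invertible modules on projective schemes
-/

set_option autoImplicit false
set_option linter.style.haveILetI false
set_option maxHeartbeats 1000000
universe u

open CategoryTheory CategoryTheory.Limits AlgebraicGeometry TopologicalSpace Opposite
open HilbPolyLib DevissLib IntMultLib IntFunLib
open KFlatLib (pb)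

noncomputable section

namespace NumTrivLib

/-- Smaller families of a bounded family are bounded. -/
theorem isBounded_mono {k : Type u} [Field k] {X : Scheme.{u}} [X.Over (Spec (CommRingCat.of k))]
    {P Q : X.Modules → Prop} (hb : Pic13.IsBounded k X Q) (h : ∀ F, P F → Q F) : Pic13.IsBounded k X P := by
  obtain ⟨T, q, h1, h2, F, hF, hm⟩ := hb
  exact ⟨T, q, h1, h2, F, hF, fun L hL => hm L (h L hL)⟩

theorem exists_inverse {X : Scheme.{u}} {L : X.Modules} (hL : PicF.IsInvertible L) :
    ∃ L', Nonempty (CohB1.tensorMod L L' ≅ Coh.structureModule X) :=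
  ⟨MiscFlat6.dual L, MiscFlat6.nonempty_dualIso hL⟩

/-- **Numerically trivial modules on a projective scheme form a bounded family.** -/
theorem isBounded_NT_proj (k : Type u) [Field k] [IsAlgClosed k] {X : Scheme.{u}}
    [X.Over (Spec (CommRingCat.of k))] [IsProper (X ↘ Spec (CommRingCat.of k))] {n : ℕ}
    (i : X ⟶ CohB1.ProjSpace n k) [IsClosedImmersion i]
    (hi : i ≫ CohB1.ProjSpace.toSpec n k = X ↘ Spec (CommRingCat.of k)) :
    Pic13.IsBounded k X (fun L : X.Modules => NT k L) := by
  haveI := CurvLib.isNoetherian k (X := X)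
  let O := Coh.structureModule X
  have hO : Coh.IsCoh O := DevissLib.isCoh_structureModule X
  obtain ⟨D, hD⟩ := exists_dim_lt k (X := X)
  obtain ⟨hI, hG⟩ := good_all i hi D
  have hsup : ∀ F : X.Modules, topologicalKrullDim (CohB1.support F) < (D : ℕ) := fun F =>
    (topologicalKrullDim_subspace_le _ _).trans_lt hD
  obtain ⟨m, hm⟩ := (hG O hO (hsup O)).van
  obtain ⟨Ψ, hΨ⟩ := QuotSchLib.exists_chi_field k (n := n) (isCoh_push k i hO)
  refine isBounded_mono (Groth.Agent.S4285.result k n X i hi m Ψ) fun L hL => ?_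
  have hLc := CurvLib.isCoh_of_isInvertible hL.inv
  have hA : ∀ d : ℤ, PicF.IsInvertible (pb i (Twist.twistProjSpace n k d)) := fun d =>
    AmpleDevLib.isInvertible_pb i (PicPnLib.twist_inv n k d)
  refine ⟨hLc, fun q hq => ?_, fun d => ?_⟩
  · have e : CohB1.tensorMod (pb i (Twist.twistProjSpace n k (m - q))) (CohB1.tensorMod L O) ≅
        Pic13.twistOn k i L (m - q) := congrRight _ (swapIso _ _ ≪≫ unitLeft L) ≪≫ swapIso _ _
    refine SerreVanLib.subsingleton_HH_of_iso e.symm q ?_
    obtain ⟨E⟩ := nonempty_HH_tw i (isCoh_tensor hL.inv hO) q (m - q)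
    haveI := hm L hL q hq (m - q) le_rfl
    exact E.toEquiv.subsingleton
  · have hX : topologicalKrullDim X ≤ (n : ℕ) :=
      (Topology.IsInducing.topologicalKrullDim_le i.isClosedEmbedding.isInducing).trans (MumfordLib.dim_le k)
    haveI : Coh.IsQCoh (Pic13.twistOn k i L d) := (isCoh_tensor hL.inv (CurvLib.isCoh_of_isInvertible (hA d))).1
    have hOd : Coh.IsCoh (CohB1.tensorMod (pb i (Twist.twistProjSpace n k d)) O) := isCoh_tensor (hA d) hO
    haveI := hOd.1
    have h1 : Φ k L (CohB1.tensorMod (pb i (Twist.twistProjSpace n k d)) O) = 0 := hI L hL _ hOd (hsup _)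
    obtain ⟨e⟩ := nonempty_tw_push i O d
    haveI := MumfordLib.isProper_projSpace (n := n) k
    rw [eulerCharLE_eq hX,
      show Curv2.euler k X (Pic13.twistOn k i L d) =
        Curv2.euler k X (CohB1.tensorMod L (CohB1.tensorMod (pb i (Twist.twistProjSpace n k d)) O)) from
        CurvLib.euler_congr (congrRight L (swapIso _ _ ≪≫ unitLeft _)).symm,
      sub_eq_zero.mp h1, ← hΨ d, MumfordLib.chi_eq_euler, (PushLinLib.euler_push k i hi _).2,
      CurvLib.euler_congr (k := k) e]

theorem tau_of_NT_proj (k : Type u) [Field k] [IsAlgClosed k] {X : Scheme.{u}}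
    [X.Over (Spec (CommRingCat.of k))] [IsProper (X ↘ Spec (CommRingCat.of k))] {H : X.Modules}
    (hH : CohB1.IsAmple H) {L : X.Modules} (hL : NT k L) : Pic13.IsTauEquivZero k X L := by
  obtain ⟨n, i, hi, hib⟩ := exists_embedding (k := k) hH
  haveI := hi
  obtain ⟨L', ⟨e⟩⟩ := exists_inverse hL.inv
  exact isTauEquivZero_of_bounded k X hL.inv e (isBounded_NT_proj k i hib) hL.pow

end NumTrivLib

end
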