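import Groth.Agent.NumTrivLib.Sub
import Groth.Agent.RegSecLib.Basic
import Groth.Agent.ProjDegLib.Chart
import Groth.Agent.FormalCohLib.ProjAmple

/-!
# Multiplication by a coordinate
-/

set_option autoImplicit false
set_option linter.style.haveILetI false
set_option maxHeartbeats 1000000
universe u

open CategoryTheory CategoryTheory.Limits AlgebraicGeometry TopologicalSpace Opposite
open HilbPolyLib DevissLib IntMultLib IntFunLib
open KFlatLib (pb)

noncomputable section

namespace NumTrivLib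

/-- Pulled back sections generate over the preimage. -/
theorem preimage_genLocus_le {X Y : Scheme.{u}} (g : X ⟶ Y) {L : Y.Modules} (s : Coh.structureModule Y ⟶ L) :
    g ⁻¹ᵁ CohB1.genLocus L s ≤
      CohB1.genLocus (pb g L) ((KFlatLib.pullUnitIso g).inv ≫ (Scheme.Modules.pullback g).map s) := by
  intro x hx
  obtain ⟨U', hU, hxU⟩ := Opens.mem_sSup.1 (show g x ∈ CohB1.genLocus L s from hx)
  let U : Y.Opens := U'
  refine Opens.mem_sSup.2 ⟨g ⁻¹ᵁ U, ?_, hxU⟩
  have h1 : IsIso ((Scheme.Modules.pullback U.ι).map s) :=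
    (NatIso.isIso_map_iff (Scheme.Modules.restrictFunctorIsoPullback U.ι) s).1 hU
  have h2 : IsIso ((Scheme.Modules.pullback U.ι ⋙ Scheme.Modules.pullback (g ∣_ U)).map s) := by
    haveI := h1
    exact Functor.map_isIso (Scheme.Modules.pullback (g ∣_ U)) _
  have h3 := (NatIso.isIso_map_iff (Scheme.Modules.pullbackComp (g ∣_ U) U.ι ≪≫
    Scheme.Modules.pullbackCongr (morphismRestrict_ι g U) ≪≫
    (Scheme.Modules.pullbackComp (g ⁻¹ᵁ U).ι g).symm) s).1 h2
  change IsIso ((Scheme.Modules.restrictFunctor (g ⁻¹ᵁ U).ι).map _)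
  rw [NatIso.isIso_map_iff (Scheme.Modules.restrictFunctorIsoPullback (g ⁻¹ᵁ U).ι), Functor.map_comp]
  haveI : IsIso ((Scheme.Modules.pullback (g ⁻¹ᵁ U).ι).map ((Scheme.Modules.pullback g).map s)) := h3
  exact IsIso.comp_isIso

variable {n : ℕ} {k : Type u} [Field k] {X : Scheme.{u}} [X.Over (Spec (CommRingCat.of k))]
  [IsProper (X ↘ Spec (CommRingCat.of k))] (i : X ⟶ CohB1.ProjSpace n k) [IsClosedImmersion i]

local notation "O'" => Twist.twistProjSpace n k

omit [X.Over (Spec (CommRingCat.of k))] [IsProper (X ↘ Spec (CommRingCat.of k))] in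
/-- `O(1) ⊗ O(-1) ≅ O` on `X`. -/
theorem nonempty_eH : Nonempty (CohB1.tensorMod (pb i (O' 1)) (pb i (O' (-1))) ≅ Coh.structureModule X) := by
  obtain ⟨e⟩ := PicPnLib.twist_add n k 1 (-1)
  obtain ⟨e₀⟩ := PicPnLib.twist_zero n k
  haveI := KFlatLib.isIso_pullθ i (O' 1) (O' (-1))
  exact ⟨(@asIso _ _ _ _ (KFlatLib.pullθ i (O' 1) (O' (-1))) this).symm ≪≫
    (Scheme.Modules.pullback i).mapIso (e ≪≫ eqToIso (by rw [add_neg_cancel]) ≪≫ e₀) ≪≫ KFlatLib.pullUnitIso i⟩

omit [X.Over (Spec (CommRingCat.of k))] [IsProper (X ↘ Spec (CommRingCat.of k))] in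
theorem isAmple_H : CohB1.IsAmple (pb i (O' 1)) :=
  AmpleDevLib.isAmple_pb i (PicPnLib.twist_inv n k 1) (FormalCohLib.isAmple_twistProjSpace n k)

omit [X.Over (Spec (CommRingCat.of k))] [IsProper (X ↘ Spec (CommRingCat.of k))] in
/-- Some coordinate generates at a given point. -/
theorem exists_sec (y : CohB1.ProjSpace n k) :
    ∃ s : Coh.structureModule (CohB1.ProjSpace n k) ⟶ O' 1, y ∈ CohB1.genLocus (O' 1) s := by
  obtain ⟨c, hc⟩ := ProjDegLib.exists_chart n k y
  have hgen : AmpleLib.GenAt (O' 1) (ProjUP.coord n k c)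
      (show y ∈ (⊤ : (CohB1.ProjSpace n k).Opens) from trivial) :=
    (AmpleLib.genAt_res le_top _ hc).1 (ProjDegLib.genAt_coord n k hc)
  obtain ⟨W, -, hW⟩ := EGA2SymLib.exists_genLocus (PicPnLib.twist_inv n k 1) (ProjUP.coord n k c)
  refine ⟨QCohLib.unitHom (O' 1) (ProjUP.coord n k c), ?_⟩
  rw [AmpleLib.genLocus_eq _ W fun z => (hW z trivial).symm]
  exact (hW _ trivial).2 hgen

omit [X.Over (Spec (CommRingCat.of k))] [IsProper (X ↘ Spec (CommRingCat.of k))] in
theorem exists_mono_twist {H : X.Modules} (hH : PicF.IsInvertible H) (τ : Coh.structureModule X ⟶ H) (N : X.Modules)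
    [Coh.IsQCoh N] (hτ : ∀ x, Curv2.IsWeakAssPoint N x → x ∈ CohB1.genLocus H τ) :
    ∃ m' : N ⟶ CohB1.tensorMod H N, Mono m' := by
  have hm := RegSecLib.mono_tensor_left_of_weak N H hH τ hτ
  exact ⟨(unitLeft N).inv ≫ ((DCoh.tensorBi (X := X)).map τ).app N, @mono_comp _ _ _ _ _ _ inferInstance _ hm⟩

omit [X.Over (Spec (CommRingCat.of k))] [IsProper (X ↘ Spec (CommRingCat.of k))] in
theorem exists_mono_tensor {L A B : X.Modules} (hL : PicF.IsInvertible L) (m : A ⟶ B) [Mono m] :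
    ∃ f : CohB1.tensorMod L A ⟶ CohB1.tensorMod L B, Mono f :=
  ⟨(CurvLib.tensorLeft' L).map m, (shortExact_tensor hL (S := ShortComplex.mk m (cokernel.π m) (cokernel.condition m))
    (ShortComplex.ShortExact.mk (ShortComplex.exact_cokernel m))).mono_f⟩

omit [X.Over (Spec (CommRingCat.of k))] [IsProper (X ↘ Spec (CommRingCat.of k))] in
/-- A monomorphism out of `H' ⊗ N` from a section generating at the associated point. -/
theorem exists_mono {H H' : X.Modules} (hH : PicF.IsInvertible H) (hH' : PicF.IsInvertible H')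
    (eH : CohB1.tensorMod H H' ≅ Coh.structureModule X) (τ : Coh.structureModule X ⟶ H) (N : X.Modules)
    [Coh.IsQCoh N] (hτ : ∀ x, Curv2.IsWeakAssPoint N x → x ∈ CohB1.genLocus H τ) :
    ∃ a : CohB1.tensorMod H' N ⟶ N, Mono a := by
  obtain ⟨m', hm'⟩ := exists_mono_twist hH τ N hτ
  obtain ⟨f, hf⟩ := exists_mono_tensor hH' m'
  let e₁ : CohB1.tensorMod H' (CohB1.tensorMod H N) ≅ N :=
    (assocIso H' H N).symm ≪≫ congrLeft (swapIso H' H ≪≫ eH) N ≪≫ unitLeft N
  exact ⟨f ≫ e₁.hom, @mono_comp _ _ _ _ _ f hf _ inferInstance⟩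

variable (k) in
include k in
/-- The cokernel drops the dimension. -/
theorem dim_cokernel_mul {Z : Scheme.{u}} [IsIntegral Z] (j : Z ⟶ X) [IsClosedImmersion j] {N : X.Modules}
    (u : N ⟶ (Coh.push j).obj (Coh.structureModule Z)) [Mono u] (hN : Coh.IsCoh N) {e : ℕ}
    (hd : topologicalKrullDim (closure ({j (genericPoint Z)} : Set X)) = (e : WithBot ℕ∞))
    {H' : X.Modules} (hH' : PicF.IsInvertible H') (a : CohB1.tensorMod H' N ⟶ N) [Mono a] :
    Coh.IsCoh (cokernel a) ∧ topologicalKrullDim (CohB1.support (cokernel a)) < (e : ℕ) := by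
  haveI := CurvLib.isNoetherian k (X := X)
  let ξ := j (genericPoint Z)
  have hS : (ShortComplex.mk a (cokernel.π a) (cokernel.condition a)).ShortExact :=
    ShortComplex.ShortExact.mk (ShortComplex.exact_cokernel a)
  have hC : Coh.IsCoh (cokernel a) := QCohLib.isCoh_cokernel a (isCoh_tensor hH' hN).1 hN
  have hsupp : CohB1.support N ⊆ closure {ξ} := by
    refine (support_mono u).trans ((DevissLib.support_push_subset j _).trans ?_)
    rintro _ ⟨z, rfl⟩
    exact specializes_iff_mem_closure.mp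
      (((genericPoint_spec Z).specializes trivial).map j.continuous)
  have hd1 : topologicalKrullDim (closure ({ξ} : Set X)) < ((e + 1 : ℕ) : WithBot ℕ∞) := by
    rw [hd]; exact_mod_cast Nat.lt_succ_self e
  refine ⟨hC, dim_lt_of_notMem (QCohLib.isClosed_support _ hC.2) ((support_epi (cokernel.π a)).trans hsupp) ?_
    subset_rfl hd1⟩
  intro hmem
  obtain ⟨T, hT, hfin, _hsum⟩ := additive_eq_sum' (k := k) (fun _ : X.Modules => (0 : ℤ)) (fun _ _ _ => rfl)
    (fun _ _ _ _ _ => (add_zero 0).symm) (d := e) (fun _ _ _ => rfl) (Y := closure ({ξ} : Set X)) isClosed_closure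
    ⟨ξ, subset_closure rfl⟩ hd.le N hN hsupp
  have hξT : ξ ∈ T := (hT ξ).mpr ⟨subset_closure rfl, hd⟩
  have h1 := len_add hS ξ
  change len N ξ = len (CohB1.tensorMod H' N) ξ + len (cokernel a) ξ at h1
  rw [EtaleEulerLib.len_tensor (CurvLib.locFree_of_isInvertible hH'), Nat.cast_one, one_mul] at h1
  have h2 : len (cokernel a) ξ = 0 :=
    (WithTop.add_left_cancel (hfin ξ hξT) ((add_zero _).trans h1)).symm
  exact hmem (Module.length_eq_zero_iff.mp h2)

/-- Cutting a pure module by a hyperplane. -/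
theorem exists_cut {Z : Scheme.{u}} [IsIntegral Z] (j : Z ⟶ X) [IsClosedImmersion j] {N : X.Modules}
    (u : N ⟶ (Coh.push j).obj (Coh.structureModule Z)) [Mono u] (hN : Coh.IsCoh N) {e : ℕ}
    (hd : topologicalKrullDim (closure ({j (genericPoint Z)} : Set X)) = (e : WithBot ℕ∞)) :
    ∃ a : CohB1.tensorMod (pb i (O' (-1))) N ⟶ N, Mono a ∧ Coh.IsCoh (cokernel a) ∧
      topologicalKrullDim (CohB1.support (cokernel a)) < (e : ℕ) := by
  haveI := hN.1
  obtain ⟨s, hs⟩ := exists_sec (k := k) (i (j (genericPoint Z)))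
  obtain ⟨eH⟩ := nonempty_eH i
  have hH' := AmpleDevLib.isInvertible_pb i (PicPnLib.twist_inv n k (-1))
  obtain ⟨a, ha⟩ := exists_mono (AmpleDevLib.isInvertible_pb i (PicPnLib.twist_inv n k 1)) hH' eH _ N
    fun x hx => by rw [weak_sub j u hx]; exact preimage_genLocus_le i s hs
  exact ⟨a, ha, dim_cokernel_mul k j u hN hd hH' a⟩

end NumTrivLib

end
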