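import Groth.Agent.NumTrivLib.Proj
import Groth.Agent.NumTrivLib.Mult
import Groth.Agent.CurvLib.Finite0

/-!
# Between `X` and projective space
-/

set_option autoImplicit false
set_option linter.style.haveILetI false
set_option maxHeartbeats 1000000
universe u

open CategoryTheory CategoryTheory.Limits AlgebraicGeometry TopologicalSpace Opposite
open HilbPolyLib DevissLib IntMultLib IntFunLib
open KFlatLib (pb)

noncomputable section

namespace NumTrivLib

/-- The projection formula for a closed immersion. -/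
theorem nonempty_proj {Z Y : Scheme.{u}} (g : Z ⟶ Y) [IsClosedImmersion g] (G : Z.Modules) {A : Y.Modules}
    (hA : PicF.IsInvertible A) :
    Nonempty (CohB1.tensorMod A ((Coh.push g).obj G) ≅ (Coh.push g).obj (CohB1.tensorMod (pb g A) G)) := by
  have hE : FlatMod.IsFinLocFree A := CurveVBLib.isFinLocFree_of_rank (CurvLib.locFree_of_isInvertible hA)
  exact ⟨@asIso _ _ _ _ (ProjFormLib.projApp g A G) (ProjFormLib.isIso_projApp g hE G)⟩

/-- `(A ⊗ G)(d)`. -/
theorem nonempty_pb_tensor {Z Y : Scheme.{u}} (g : Z ⟶ Y) (A B : Y.Modules) :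
    Nonempty (CohB1.tensorMod (pb g A) (pb g B) ≅ pb g (CohB1.tensorMod A B)) := by
  haveI := KFlatLib.isIso_pullθ g A B
  exact ⟨(@asIso _ _ _ _ (KFlatLib.pullθ g A B) this).symm⟩

variable {n : ℕ} {k : Type u} [Field k] {X : Scheme.{u}} [X.Over (Spec (CommRingCat.of k))]
  [IsProper (X ↘ Spec (CommRingCat.of k))] (i : X ⟶ CohB1.ProjSpace n k) [IsClosedImmersion i]

local notation "P" => CohB1.ProjSpace n k
local notation "O'" => Twist.twistProjSpace n k

omit [X.Over (Spec (CommRingCat.of k))] [IsProper (X ↘ Spec (CommRingCat.of k))] in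
theorem nonempty_tw_push (G : X.Modules) (d : ℤ) :
    Nonempty (tw k i G d ≅ (Coh.push i).obj (CohB1.tensorMod (pb i (O' d)) G)) := by
  obtain ⟨e⟩ := nonempty_proj i G (PicPnLib.twist_inv n k d)
  exact ⟨swapIso _ _ ≪≫ e⟩

omit [X.Over (Spec (CommRingCat.of k))] [IsProper (X ↘ Spec (CommRingCat.of k))] in
theorem nonempty_tw_shift (G : X.Modules) (d : ℤ) :
    Nonempty (tw k i (CohB1.tensorMod (pb i (O' (-1))) G) d ≅ tw k i G (d - 1)) := by
  obtain ⟨e⟩ := nonempty_tw_push i (CohB1.tensorMod (pb i (O' (-1))) G) d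
  obtain ⟨e'⟩ := nonempty_tw_push i G (d - 1)
  obtain ⟨t⟩ := PicPnLib.twist_add n k d (-1)
  obtain ⟨p⟩ := nonempty_pb_tensor i (O' d) (O' (-1))
  exact ⟨e ≪≫ (Coh.push i).mapIso ((assocIso _ _ G).symm ≪≫ congrLeft (p ≪≫
    (Scheme.Modules.pullback i).mapIso (t ≪≫ eqToIso (by rw [← sub_eq_add_neg]))) G) ≪≫ e'.symm⟩

theorem nonempty_HH_tw {G : X.Modules} (hG : Coh.IsCoh G) (q : ℕ) (d : ℤ) :
    Nonempty (Coh.HH X (CohB1.tensorMod (pb i (O' d)) G) q ≃+ Coh.HH P (tw k i G d) q) := by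
  obtain ⟨e⟩ := nonempty_tw_push i G d
  haveI := (isCoh_tensor (AmpleDevLib.isInvertible_pb i (PicPnLib.twist_inv n k d)) hG).1
  obtain ⟨E⟩ := QCohLib.nonempty_HH_push i (CohB1.tensorMod (pb i (O' d)) G) q
  exact ⟨E.trans (CurvLib.hIso (k := k) e.symm q).toAddEquiv⟩

variable (hi : i ≫ CohB1.ProjSpace.toSpec n k = X ↘ Spec (CommRingCat.of k))

include hi in
theorem finrank_tw {G : X.Modules} (hG : Coh.IsCoh G) (q : ℕ) (d : ℤ) :
    Module.finrank k (Coh.HH X (CohB1.tensorMod (pb i (O' d)) G) q) = hq k i G q d := by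
  haveI := (isCoh_tensor (AmpleDevLib.isInvertible_pb i (PicPnLib.twist_inv n k d)) hG).1
  haveI := MumfordLib.isProper_projSpace (n := n) k
  obtain ⟨e⟩ := nonempty_tw_push i G d
  rw [(PushLinLib.euler_push k i hi (CohB1.tensorMod (pb i (O' d)) G)).1 q]
  exact ((CurvLib.hIso (k := k) e q).finrank_eq).symm

include hi in
theorem euler_eq_two {G : X.Modules} (hG : Coh.IsCoh G) (d : ℤ)
    (h : ∀ q, 2 ≤ q → Subsingleton (Coh.HH P (tw k i G d) q)) :
    Curv2.euler k X (CohB1.tensorMod (pb i (O' d)) G) = (hq k i G 0 d : ℤ) - (hq k i G 1 d : ℤ) := by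
  rw [CurvLib.euler_eq_sum (d := 2) fun q hq => by
      obtain ⟨E⟩ := nonempty_HH_tw i hG q d
      haveI := h q hq
      exact E.toEquiv.subsingleton,
    Finset.sum_range_succ, Finset.sum_range_one, finrank_tw i hi hG, finrank_tw i hi hG]
  ring

variable {e : ℕ}

include hi in
/-- Dimension zero. -/
theorem good_of_dim_zero {F : X.Modules} (hF : Coh.IsCoh F)
    (hd : topologicalKrullDim (CohB1.support F) ≤ (0 : ℕ)) : Good k i F := by
  haveI := CurvLib.isNoetherian k (X := X)
  have hA : ∀ d : ℤ, PicF.IsInvertible (pb i (O' d)) := fun d =>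
    AmpleDevLib.isInvertible_pb i (PicPnLib.twist_inv n k d)
  have hs : ∀ T : X.Modules, PicF.IsInvertible T → ∀ d : ℤ,
      topologicalKrullDim (CohB1.support (CohB1.tensorMod (pb i (O' d)) (CohB1.tensorMod T F))) ≤ (0 : ℕ) := by
    intro T hT d
    rw [support_tensor (hA d), support_tensor hT]
    exact hd
  have hv : ∀ T : X.Modules, PicF.IsInvertible T → ∀ (q : ℕ), 1 ≤ q → ∀ d : ℤ,
      Subsingleton (Coh.HH P (tw k i (CohB1.tensorMod T F) d) q) := by
    intro T hT q hq d
    obtain ⟨E⟩ := nonempty_HH_tw i (isCoh_tensor hT hF) q d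
    haveI := CurvLib.subsingleton_HH_of_support_dim (CohB1.tensorMod (pb i (O' d)) (CohB1.tensorMod T F))
      (isCoh_tensor (hA d) (isCoh_tensor hT hF)).2 (d := 0) (hs T hT d) q (by omega)
    exact E.toEquiv.symm.subsingleton
  refine ⟨hF, ⟨0, fun T hT a ha _ => hv T hT.inv a ha _⟩, fun q d => ?_⟩
  rcases Nat.eq_zero_or_pos q with rfl | hq
  · refine ⟨(Curv2.euler k X (CohB1.tensorMod (pb i (O' d)) F)).toNat, fun T hT => ?_⟩
    have h := euler_eq_two i hi (isCoh_tensor hT.inv hF) d fun q hq => hv T hT.inv q (by omega) d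
    haveI := hv T hT.inv 1 le_rfl d
    rw [show NumTrivLib.hq k i (CohB1.tensorMod T F) 1 d = 0 from Module.finrank_zero_of_subsingleton,
      CurvLib.euler_congr (leftComm (pb i (O' d)) T F)] at h
    have h0 := Φ_eq_zero_of_dim_le_one hT (isCoh_tensor (hA d) hF)
      (by rw [support_tensor (hA d)]; exact hd.trans (by norm_num))
    simp only [Φ] at h0
    omega
  · refine ⟨0, fun T hT => ?_⟩
    haveI := hv T hT.inv q hq d
    exact (Module.finrank_zero_of_subsingleton (R := k) (M := Coh.HH P (tw k i (CohB1.tensorMod T F) d) q)).le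

omit [IsClosedImmersion i] in
/-- No sections of negative twists on an integral subscheme. -/
theorem subsingleton_neg [IsClosedImmersion i] {Z : Scheme.{u}} [IsIntegral Z] (j : Z ⟶ X) [IsClosedImmersion j]
    (hd : topologicalKrullDim (closure ({j (genericPoint Z)} : Set X)) = ((e + 1 : ℕ) : WithBot ℕ∞))
    {T : X.Modules} (hT : NT k T) :
    Subsingleton (Coh.HH P (tw k i (CohB1.tensorMod T ((Coh.push j).obj (Coh.structureModule Z))) (-1)) 0) := by
  letI : Z.Over (Spec (CommRingCat.of k)) := ⟨j ≫ (X ↘ Spec (CommRingCat.of k))⟩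
  haveI : IsProper (Z ↘ Spec (CommRingCat.of k)) := inferInstanceAs (IsProper (j ≫ (X ↘ Spec (CommRingCat.of k))))
  haveI := CurvLib.isNoetherian k (X := X)
  let H' := pb i (O' (-1))
  have hH' : PicF.IsInvertible H' := AmpleDevLib.isInvertible_pb i (PicPnLib.twist_inv n k (-1))
  have hA : PicF.IsInvertible (CohB1.tensorMod T H') := isInvertible_tensor hT.inv hH'
  have hW : Coh.IsCoh ((Coh.push j).obj (Coh.structureModule Z)) :=
    QCohLib.isCoh_push_finite j _ (DevissLib.isCoh_structureModule Z)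
  obtain ⟨E⟩ := nonempty_HH_tw i (isCoh_tensor hT.inv hW) 0 (-1)
  obtain ⟨p⟩ := nonempty_proj j (Coh.structureModule Z) hA
  obtain ⟨q⟩ := nonempty_pb_tensor j T H'
  let e₁ : CohB1.tensorMod H' (CohB1.tensorMod T ((Coh.push j).obj (Coh.structureModule Z))) ≅
      (Coh.push j).obj (CohB1.tensorMod (pb j T) (pb j H')) :=
    (assocIso _ _ _).symm ≪≫ congrLeft (swapIso H' T) _ ≪≫ p ≪≫
      (Coh.push j).mapIso (swapIso _ _ ≪≫ unitLeft _ ≪≫ q.symm)
  have hAZ : PicF.IsInvertible (CohB1.tensorMod (pb j T) (pb j H')) :=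
    isInvertible_tensor (AmpleDevLib.isInvertible_pb j hT.inv) (AmpleDevLib.isInvertible_pb j hH')
  haveI := (CurvLib.isCoh_of_isInvertible hAZ).1
  obtain ⟨E₂⟩ := QCohLib.nonempty_HH_push j (CohB1.tensorMod (pb j T) (pb j H')) 0
  have hZ : topologicalKrullDim Z = ((e + 1 : ℕ) : WithBot ℕ∞) := by
    rw [← hd, (j.isEmbedding.toHomeomorph).isHomeomorph.topologicalKrullDim_eq]
    have hr : Set.range j = closure ({j (genericPoint Z)} : Set X) := by
      refine Set.Subset.antisymm ?_ (closure_minimal (Set.singleton_subset_iff.mpr ⟨_, rfl⟩)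
        j.isClosedEmbedding.isClosed_range)
      rintro _ ⟨z, rfl⟩
      exact specializes_iff_mem_closure.mp
        (((genericPoint_spec Z).specializes trivial).map j.continuous)
    exact (Homeomorph.setCongr hr).isHomeomorph.topologicalKrullDim_eq
  obtain ⟨eH⟩ := nonempty_eH i
  obtain ⟨q'⟩ := nonempty_pb_tensor j (pb i (O' 1)) H'
  let eZ := q' ≪≫ (Scheme.Modules.pullback j).mapIso eH ≪≫ KFlatLib.pullUnitIso j
  haveI h0 : Subsingleton (Coh.HH Z (CohB1.tensorMod (pb j T) (pb j H')) 0) := by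
    by_contra hs
    obtain ⟨φ, hφ⟩ := CurvLib.exists_hom_ne_zero (L := CohB1.tensorMod (pb j T) (pb j H'))
      (not_subsingleton_iff_nontrivial.mp hs)
    exact hφ (eq_zero_of_negative hZ (AmpleDevLib.isAmple_pb j (AmpleDevLib.isInvertible_pb i
      (PicPnLib.twist_inv n k 1)) (isAmple_H i)) eZ (hT.pullback rfl) φ)
  haveI : Subsingleton (Coh.HH X ((Coh.push j).obj (CohB1.tensorMod (pb j T) (pb j H'))) 0) :=
    E₂.toEquiv.symm.subsingleton
  haveI := SerreVanLib.subsingleton_HH_of_iso e₁ 0 inferInstance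
  exact E.toEquiv.symm.subsingleton

end NumTrivLib

end
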