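import Groth.Agent.NumTrivLib.Step
import Groth.Agent.AmpleThLib.ProjA

/-!
# Numerically trivial modules leave Euler characteristics unchanged
-/

set_option autoImplicit false
set_option linter.style.haveILetI false
set_option maxHeartbeats 1000000
universe u

open CategoryTheory CategoryTheory.Limits AlgebraicGeometry TopologicalSpace Opposite
open HilbPolyLib DevissLib IntMultLib IntFunLib
open KFlatLib (pb)

noncomputable section

namespace NumTrivLib

variable {k : Type u} [Field k]

section Proj

variable {n : ℕ} {X : Scheme.{u}} [X.Over (Spec (CommRingCat.of k))] [IsProper (X ↘ Spec (CommRingCat.of k))]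
  (i : X ⟶ CohB1.ProjSpace n k) [IsClosedImmersion i] (hi : i ≫ CohB1.ProjSpace.toSpec n k = X ↘ Spec (CommRingCat.of k))

theorem Φ_of_isZero {T M : X.Modules} (h : IsZero M) : Φ k T M = 0 := by
  rw [Φ, euler_zero (isZero_tensor_right T M h), euler_zero h, sub_self]

theorem dim_lt_of_isZero {M : X.Modules} (h : IsZero M) (e : ℕ) :
    topologicalKrullDim (CohB1.support M) < (e : ℕ) := by
  rw [support_of_isZero h]
  haveI : IsEmpty (IrreducibleCloseds (∅ : Set X)) := ⟨fun c => (c.isIrreducible.nonempty.some).2.elim⟩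
  rw [show topologicalKrullDim (∅ : Set X) = ⊥ from Order.krullDim_eq_bot]
  exact WithBot.bot_lt_coe _

include hi in
/-- On a projective scheme, twisting by numerically trivial modules is bounded and preserves `χ`. -/
theorem good_all : ∀ e : ℕ, Inv k X e ∧
    ∀ M : X.Modules, Coh.IsCoh M → topologicalKrullDim (CohB1.support M) < (e : ℕ) → Good k i M := by
  haveI := CurvLib.isNoetherian k (X := X)
  intro e
  induction e with
  | zero =>
    have hz : ∀ M : X.Modules, topologicalKrullDim (CohB1.support M) < ((0 : ℕ) : WithBot ℕ∞) → IsZero M :=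
      fun M h => by
        refine isZero_of_support_empty (Set.not_nonempty_iff_eq_empty.mp fun hne => ?_)
        have h2 := (nonneg_dim hne).trans_lt h
        rw [Nat.cast_zero] at h2
        exact lt_irrefl _ h2
    exact ⟨fun T _ M _ h => Φ_of_isZero (hz M h), fun M _ h => Good.of_isZero (hz M h)⟩
  | succ e ih =>
    obtain ⟨hI, hG⟩ := ih
    suffices key : ∀ M : X.Modules, Coh.IsCoh M → topologicalKrullDim (CohB1.support M) ≤ (e : ℕ) →
        Good k i M ∧ ∀ T, NT k T → Φ k T M = 0 from
      ⟨fun T hT M hM hd => (key M hM (dim_le_iff.mp hd)).2 T hT, fun M hM hd => (key M hM (dim_le_iff.mp hd)).1⟩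
    intro M hM hd
    obtain ⟨m, F, φ, hF0, ⟨eF⟩, hFc, hF⟩ := exists_filtration hM
    have hsub : ∀ d : ℕ, ∀ j ≤ m, m ≤ j + d → CohB1.support (F j) ⊆ CohB1.support M := by
      intro d
      induction d with
      | zero => intro j hj hj'; obtain rfl : j = m := by omega
                exact (support_iso eF).le
      | succ d ihd =>
        intro j hj hj'
        rcases hj.eq_or_lt with rfl | hlt
        · exact (support_iso eF).le
        · haveI := (hF j hlt).1
          exact (support_mono (φ j)).trans (ihd (j + 1) (by omega) (by omega))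
    suffices ∀ j ≤ m, Good k i (F j) ∧ ∀ T, NT k T → Φ k T (F j) = 0 by
      obtain ⟨h1, h2⟩ := this m le_rfl
      exact ⟨h1.iso eF, fun T hT => ((isAdditive_Φ hT.inv).iso _ _ eF).symm.trans (h2 T hT)⟩
    intro j
    induction j with
    | zero => exact fun _ => ⟨Good.of_isZero hF0, fun T _ => Φ_of_isZero hF0⟩
    | succ j ihj =>
      intro hj
      obtain ⟨h1, h2⟩ := ihj (by omega)
      obtain ⟨hmono, Z, iZ, hiZ, hZ, I, ι, hι, hIq, -, ⟨eC⟩⟩ := hF j (by omega)
      haveI := hmono
      haveI := hiZ
      haveI := hZ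
      haveI := hι
      let S : ShortComplex X.Modules := ShortComplex.mk (φ j) (cokernel.π (φ j)) (cokernel.condition _)
      have hS : S.ShortExact := ShortComplex.ShortExact.mk (ShortComplex.exact_cokernel _)
      have hc1 := hFc j (by omega)
      have hc2 := hFc (j + 1) hj
      have hc3 : Coh.IsCoh (cokernel (φ j)) := QCohLib.isCoh_cokernel _ hc1.1 hc2
      suffices key3 : Good k i (cokernel (φ j)) ∧ ∀ T, NT k T → Φ k T (cokernel (φ j)) = 0 by
        refine ⟨Good.ext (S := S) hS hc2 h1 key3.1, fun T hT => ?_⟩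
        rw [show F (j + 1) = S.X₂ from rfl, (isAdditive_Φ hT.inv).add S hS hc1 hc2 hc3]
        change Φ k T (F j) + Φ k T (cokernel (φ j)) = 0
        rw [h2 T hT, key3.2 T hT, add_zero]
      have hN : Coh.IsCoh ((Coh.push iZ).obj I) := QCohLib.isCoh_of_iso eC hc3
      suffices keyN : Good k i ((Coh.push iZ).obj I) ∧ ∀ T, NT k T → Φ k T ((Coh.push iZ).obj I) = 0 from
        ⟨keyN.1.iso eC.symm, fun T hT => ((isAdditive_Φ hT.inv).iso _ _ eC).trans (keyN.2 T hT)⟩
      have hdN : topologicalKrullDim (CohB1.support ((Coh.push iZ).obj I)) ≤ (e : ℕ) := by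
        rw [← support_iso eC]
        exact (dim_mono ((support_epi (cokernel.π (φ j))).trans (hsub m (j + 1) hj (by omega)))).trans hd
      rcases hdN.lt_or_eq with hlt | heq
      · exact ⟨hG _ hN hlt, fun T hT => hI T hT _ hN hlt⟩
      rcases e with _ | e
      · exact ⟨good_of_dim_zero i hi hN heq.le, fun T hT => Φ_eq_zero_of_dim_le_one hT hN
          (heq.le.trans (by norm_num))⟩
      haveI : Mono ((Coh.push iZ).map ι) := inferInstance
      have hξ : iZ (genericPoint Z) ∈ CohB1.support ((Coh.push iZ).obj I) := by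
        by_contra h
        exact (dim_lt_of_isZero (isZero_of_mono_push iZ ((Coh.push iZ).map ι) h) (e + 1)).ne heq
      have hdξ : topologicalKrullDim (closure ({iZ (genericPoint Z)} : Set X)) = ((e + 1 : ℕ) : WithBot ℕ∞) := by
        refine le_antisymm ((dim_mono ((QCohLib.isClosed_support _ hN.2).closure_subset_iff.mpr
          (Set.singleton_subset_iff.mpr hξ))).trans heq.le) (heq.ge.trans (dim_mono ?_))
        refine (DevissLib.support_push_subset iZ _).trans ?_
        rintro _ ⟨z, rfl⟩
        exact specializes_iff_mem_closure.mp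
          (((genericPoint_spec Z).specializes trivial).map iZ.continuous)
      exact step i hi iZ ((Coh.push iZ).map ι) hN hdξ hI hG

end Proj

/-- A proper scheme with an ample module is closed in a projective space. -/
theorem exists_embedding {X : Scheme.{u}} [X.Over (Spec (CommRingCat.of k))] [IsProper (X ↘ Spec (CommRingCat.of k))]
    {H : X.Modules} (hH : CohB1.IsAmple H) :
    ∃ (n : ℕ) (i : X ⟶ CohB1.ProjSpace n k), IsClosedImmersion i ∧
      i ≫ CohB1.ProjSpace.toSpec n k = X ↘ Spec (CommRingCat.of k) :=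
  AmpleThLib.exists_closedImmersion (R := k) (X ↘ Spec (CommRingCat.of k)) hH.1 hH

/-- Invariance on projective schemes. -/
theorem Φ_eq_zero_of_isAmple {X : Scheme.{u}} [X.Over (Spec (CommRingCat.of k))]
    [IsProper (X ↘ Spec (CommRingCat.of k))] {H : X.Modules} (hH : CohB1.IsAmple H) {L : X.Modules} (hL : NT k L)
    {F : X.Modules} (hF : Coh.IsCoh F) : Φ k L F = 0 := by
  obtain ⟨n, i, hi, hib⟩ := exists_embedding (k := k) hH
  haveI := hi
  obtain ⟨D, hD⟩ := exists_dim_lt k (X := X)
  exact (good_all i hib D).1 L hL F hF ((topologicalKrullDim_subspace_le _ _).trans_lt hD)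

/-- **Numerically trivial modules do not change Euler characteristics.** -/
theorem Φ_eq_zero {X : Scheme.{u}} [X.Over (Spec (CommRingCat.of k))] [IsProper (X ↘ Spec (CommRingCat.of k))]
    {L : X.Modules} (hL : NT k L) {F : X.Modules} (hF : Coh.IsCoh F) : Φ k L F = 0 := by
  haveI := CurvLib.isNoetherian k (X := X)
  obtain ⟨D, hD⟩ := exists_dim_lt k (X := X)
  suffices ∀ e : ℕ, Inv k X e from this D L hL F hF ((topologicalKrullDim_subspace_le _ _).trans_lt hD)
  intro e
  induction e with
  | zero =>
    intro T _ M _ h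
    refine Φ_of_isZero (isZero_of_support_empty (Set.not_nonempty_iff_eq_empty.mp fun hne => ?_))
    have h2 := (nonneg_dim hne).trans_lt h
    rw [Nat.cast_zero] at h2
    exact lt_irrefl _ h2
  | succ e ih =>
    intro T hT M hM hd
    have hd' := dim_le_iff.mp hd
    rcases (CohB1.support M).eq_empty_or_nonempty with h0 | hne
    · exact Φ_of_isZero (isZero_of_support_empty h0)
    obtain ⟨S, hS, hsum⟩ := additive_eq_sum (k := k) (Φ k T) (isAdditive_Φ hT.inv).iso (isAdditive_Φ hT.inv).add
      (ih T hT) (QCohLib.isClosed_support M hM.2) hne hd' M hM subset_rfl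
    rw [hsum]
    refine Finset.sum_eq_zero fun η hη => ?_
    suffices h : Φ k T (Fpt η) = 0 by rw [h, smul_zero]
    have hηd := ((hS η).mp hη).2
    obtain ⟨n, X', π, j, hj, hjb, hπ, hsurj, -⟩ := ChowLib.chow_all (X ↘ Spec (CommRingCat.of k))
    haveI := hπ
    haveI : IsProper (j ≫ CohB1.ProjSpaceOver.toBase n (Spec (CommRingCat.of k))) := by
      rw [hjb]; infer_instance
    let f := j ≫ CohB1.ProjSpaceOver.toBase n (Spec (CommRingCat.of k))
    let U := f ⁻¹ᵁ (⊤ : (Spec (CommRingCat.of k)).Opens)
    have hamp := PnCohLib.isAmple_twist_restrict (i := j) (W := (⊤ : (Spec (CommRingCat.of k)).Opens))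
      (isAffineOpen_top _)
    haveI : IsIso U.ι := by exact (inferInstance : IsIso X'.topIso.hom)
    let g : U.toScheme ⟶ X := U.ι ≫ π
    letI : U.toScheme.Over (Spec (CommRingCat.of k)) := ⟨g ≫ (X ↘ Spec (CommRingCat.of k))⟩
    haveI : IsProper (U.toScheme ↘ Spec (CommRingCat.of k)) :=
      inferInstanceAs (IsProper (g ≫ (X ↘ Spec (CommRingCat.of k))))
    have hrfl : g ≫ (X ↘ Spec (CommRingCat.of k)) = U.toScheme ↘ Spec (CommRingCat.of k) := rfl
    have hr : η ∈ Set.range g := by
      obtain ⟨x, hx⟩ := hsurj.1 η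
      exact ⟨⟨x, trivial⟩, hx⟩
    obtain ⟨x, hx, hxd⟩ := exists_point_over hrfl η hr
    rw [hηd] at hxd
    haveI := isProper_g hrfl
    haveI : HasInjectiveResolutions U.toScheme.Modules := inferInstance
    have hxF := coh_Fpt k x
    obtain ⟨N, hN, -⟩ := EulerRpushLib.euler_eq_sum_rpush g hrfl (Fpt x) hxF
    have hz : ∀ i, N + 1 ≤ i → IsZero ((Coh.Rpush g i).obj (Fpt x)) := fun i hi => hN i (by omega)
    have h1 := euler_twist_sum hrfl hT.inv hxF hz
    have h2 := euler_twist_sum hrfl (CurvLib.isInvertible_structureModule (X := X)) hxF hz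
    rw [CurvLib.euler_congr (congrLeft (KFlatLib.pullUnitIso g) (Fpt x) ≪≫ unitLeft (Fpt x))] at h2
    simp only [CurvLib.euler_congr (k := k) (unitLeft _)] at h2
    have h3 := Φ_eq_zero_of_isAmple hamp (hT.pullback hrfl) hxF
    have h4 : ∑ i ∈ Finset.range (N + 1), (-1 : ℤ) ^ i * Φ k T ((Coh.Rpush g i).obj (Fpt x)) = 0 := by
      simp only [Φ, mul_sub, Finset.sum_sub_distrib]
      rw [← h1, ← h2]
      exact h3
    rw [Finset.sum_range_succ', Finset.sum_eq_zero fun q _ => ?_] at h4
    swap
    · have hc : Coh.IsCoh ((Coh.Rpush g (q + 1)).obj (Fpt x)) := Groth.Agent.S0036.result g (Fpt x) hxF (q + 1)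
      rw [ih T hT _ hc (dim_lt_of_points (QCohLib.isClosed_support _ hc.2) fun y hy => ?_), mul_zero]
      exact dim_closure_lt_of_infinite k (QCohLib.isClosed_support (Fpt x) hxF.2)
        (fun hfin => notMem_support_rpush_of_finite g hxF y hfin q hy)
        (dim_le_iff.mpr (by rw [supp_Fpt k, hxd]))
    rw [zero_add, pow_zero, one_mul] at h4
    have h5 : Φ k T ((Coh.push g).obj (Fpt x)) = 0 :=
      ((isAdditive_Φ hT.inv).iso _ _ ((Scheme.Modules.pushforward g).rightDerivedZeroIsoSelf.app (Fpt x))).symm.trans h4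
    have hc : Coh.IsCoh ((Coh.push g).obj (Fpt x)) := FormalCohLib.isCoh_push_proper g hxF
    have hs := support_push_closure hrfl x
    rw [hx] at hs
    have hmem : η ∈ CohB1.support ((Coh.push g).obj (Fpt x)) := hx ▸ mem_support_push hrfl x
    obtain ⟨R, hR, hfin, hsum'⟩ := additive_eq_sum' (k := k) (Φ k T) (isAdditive_Φ hT.inv).iso
      (isAdditive_Φ hT.inv).add (ih T hT) (QCohLib.isClosed_support _ hc.2) ⟨η, hmem⟩
      ((dim_mono hs).trans hηd.le) _ hc subset_rfl
    have hR' : R = {η} := Finset.ext fun y => by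
      rw [hR, Finset.mem_singleton]
      refine ⟨fun ⟨hy, hyd⟩ => ?_, fun hy => by subst hy; exact ⟨hmem, hηd⟩⟩
      exact (eq_of_specializes_of_dim isClosed_closure hηd.le hyd (subset_closure rfl)
        (specializes_iff_mem_closure.mpr (hs hy))).symm
    rw [h5, hR', Finset.sum_singleton] at hsum'
    have hlen : (len ((Coh.push g).obj (Fpt x)) η).toNat ≠ 0 := fun h => by
      rcases ENat.toNat_eq_zero.mp h with h | h
      · exact hmem (Module.length_eq_zero_iff.mp h)
      · exact hfin η (hR' ▸ Finset.mem_singleton_self η) h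
    exact (smul_eq_zero.mp hsum'.symm).resolve_left hlen

end NumTrivLib

end
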