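import Groth.Agent.IntFunLib.Numerical
import Groth.Agent.IntFunLib.NefApps
import Groth.Agent.IntFunLib.Kleiman
import Groth.Agent.EtaleEulerLib.Nilp
import Groth.Agent.CurvLib.Line
import Groth.Agent.CubeConsLib.IsoCls

/-!
# Numerically trivial modules
-/

set_option autoImplicit false
set_option linter.style.haveILetI false
set_option maxHeartbeats 1000000
universe u

open CategoryTheory CategoryTheory.Limits AlgebraicGeometry TopologicalSpace Opposite
open HilbPolyLib DevissLib IntMultLib IntFunLib
open KFlatLib (pb)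

noncomputable section

namespace NumTrivLib

variable (k : Type u) [Field k] {X : Scheme.{u}} [X.Over (Spec (CommRingCat.of k))]

/-- Numerically trivial invertible modules, on integral closed curves given by ideals. -/
structure NT (L : X.Modules) : Prop where
  inv : PicF.IsInvertible L
  deg : ∀ C : X.IdealSheafData, IsIntegral C.subscheme → topologicalKrullDim (C.support : Set X) = 1 →
    cd k L C = 0

/-- The change of the Euler characteristic by twisting. -/
def Φ (L F : X.Modules) : ℤ :=
  Curv2.euler k X (CohB1.tensorMod L F) - Curv2.euler k X F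

variable {k} [IsProper (X ↘ Spec (CommRingCat.of k))]

theorem isAdditive_Φ {L : X.Modules} (hL : PicF.IsInvertible L) : EtaleEulerLib.IsAdditive (Φ k L) where
  iso M N e := by rw [Φ, Φ, CurvLib.euler_congr (congrRight L e), CurvLib.euler_congr e]
  add S hS h₁ h₂ h₃ := by
    haveI := CurvLib.isNoetherian k (X := X)
    have h := CurvLib.euler_add_of_isCoh (k := k) (shortExact_tensor hL hS) (isCoh_tensor hL h₁) (isCoh_tensor hL h₂)
      (isCoh_tensor hL h₃)
    have h' := CurvLib.euler_add_of_isCoh (k := k) hS h₁ h₂ h₃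
    change Curv2.euler k X (CohB1.tensorMod L S.X₂) =
      Curv2.euler k X (CohB1.tensorMod L S.X₁) + Curv2.euler k X (CohB1.tensorMod L S.X₃) at h
    simp only [Φ]
    linarith

theorem Φ_tensor (A B F : X.Modules) :
    Φ k (CohB1.tensorMod A B) F = Φ k A (CohB1.tensorMod B F) + Φ k B F := by
  simp only [Φ]
  rw [CurvLib.euler_congr (assocIso A B F)]
  ring

theorem Φ_congr {A B : X.Modules} (e : A ≅ B) (F : X.Modules) : Φ k A F = Φ k B F := by
  rw [Φ, Φ, CurvLib.euler_congr (congrLeft e F)]

theorem Φ_unit (F : X.Modules) : Φ k (Coh.structureModule X) F = 0 := by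
  rw [Φ, CurvLib.euler_congr (unitLeft F), sub_self]

omit [IsProper (X ↘ Spec (CommRingCat.of k))] in
theorem NT.unit : NT k (Coh.structureModule X) :=
  ⟨CurvLib.isInvertible_structureModule, fun C _ _ => cd_unit C⟩

theorem NT.tensor {A B : X.Modules} (hA : NT k A) (hB : NT k B) : NT k (CohB1.tensorMod A B) :=
  ⟨isInvertible_tensor hA.inv hB.inv, fun C hi hC => by
    rw [cd_tensor hA.inv hB.inv hC, hA.deg C hi hC, hB.deg C hi hC, add_zero]⟩

omit [IsProper (X ↘ Spec (CommRingCat.of k))] in
theorem NT.iso {A B : X.Modules} (hA : NT k A) (e : A ≅ B) : NT k B :=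
  ⟨isInvertible_of_iso e hA.inv, fun C hi hC => by rw [← cd_congr e, hA.deg C hi hC]⟩

theorem NT.pow {A : X.Modules} (hA : NT k A) : ∀ m : ℕ, NT k (CohB1.tensorPow A m)
  | 0 => NT.unit
  | m + 1 => (NT.pow hA m).tensor hA

theorem NT.inverse {A B : X.Modules} (hA : NT k A) (e : CohB1.tensorMod A B ≅ Coh.structureModule X) :
    NT k B := by
  have hB := IntMultLib.isInvertible_of_inverse hA.inv e
  refine ⟨hB, fun C hi hC => ?_⟩
  have := cd_tensor (k := k) hA.inv hB hC
  rw [cd_congr e, cd_unit, hA.deg C hi hC, zero_add] at this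
  exact this.symm

theorem NT.of_isNumEquivZero {L : X.Modules} (hL : PicF.IsInvertible L) (h : Pic13.IsNumEquivZero k X L) :
    NT k L :=
  ⟨hL, fun _ hi hC => cd_eq_zero_of_numZero hL h hi hC⟩

/-- The number of a numerically trivial module against anything is zero. -/
theorem N_cons_zero {L : X.Modules} (hL : NT k L) {l : List X.Modules} (hl : ∀ A ∈ l, PicF.IsInvertible A)
    {F : X.Modules} (hF : Coh.IsCoh F) (hd : topologicalKrullDim (CohB1.support F) ≤ (l.length + 1 : ℕ)) :
    N k (L :: l) F = 0 := by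
  obtain ⟨D, hD⟩ := exists_dim_lt k (X := X)
  have h := intNum_eq_of_cd (k := k) hD.le (l.length + 1) (Fin.cons L l.get)
    (Fin.cons (Coh.structureModule X) l.get) (Fin.cases hL.inv (inv_get hl))
    (Fin.cases CurvLib.isInvertible_structureModule (inv_get hl))
    (Fin.cases (fun C hi hC => by simp only [Fin.cons_zero]; rw [hL.deg C hi hC, cd_unit])
      fun i C _ _ => by simp only [Fin.cons_succ]) F hF hd
  have e : ∀ A : X.Modules, N k (A :: l) F = (-1) ^ (l.length + 1) * FGA.intNum k X D (Fin.cons A l.get) F := by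
    intro A
    rw [← N_ofFn hD.le, List.ofFn_succ]
    simp
  rw [e, h, ← e, N, N_congr l (unitLeft F), sub_self]

/-- In dimension at most one numerical triviality is invariance. -/
theorem Φ_eq_zero_of_dim_le_one {L : X.Modules} (hL : NT k L) {F : X.Modules} (hF : Coh.IsCoh F)
    (hd : topologicalKrullDim (CohB1.support F) ≤ (1 : ℕ)) : Φ k L F = 0 := by
  have h := N_cons_zero hL (l := []) (by simp) hF (by simpa using hd)
  simpa [N, Φ] using h

variable (k X) in
/-- Invariance below dimension `e`. -/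
def Inv (e : ℕ) : Prop :=
  ∀ L : X.Modules, NT k L → EtaleEulerLib.VanishesBelow (Φ k L) e

/-- Below `e + 1` invertible twists do not matter. -/
theorem Φ_shift {e : ℕ} (h : Inv k X e) {L A : X.Modules} (hL : NT k L) (hA : PicF.IsInvertible A)
    {F : X.Modules} (hF : Coh.IsCoh F) (hd : topologicalKrullDim (CohB1.support F) ≤ (e : ℕ)) :
    Φ k L (CohB1.tensorMod A F) = Φ k L F := by
  have := EtaleEulerLib.vanishesBelow_diff (k := k) (CurvLib.locFree_of_isInvertible hA) (isAdditive_Φ hL.inv)
    (h L hL) F hF (dim_le_iff.mpr hd)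
  simpa [EtaleEulerLib.diff, sub_eq_zero] using this

theorem Φ_pow {e : ℕ} (h : Inv k X e) {L : X.Modules} (hL : NT k L)
    {F : X.Modules} (hF : Coh.IsCoh F) (hd : topologicalKrullDim (CohB1.support F) ≤ (e : ℕ)) :
    ∀ m : ℕ, Φ k (CohB1.tensorPow L m) F = m * Φ k L F
  | 0 => by rw [CohB1.tensorPow, Φ_unit]; simp
  | m + 1 => by
    rw [CohB1.tensorPow, Φ_tensor, Φ_shift h (hL.pow m) hL.inv hF hd, Φ_pow h hL hF hd m]
    push_cast
    ring

/-- **Key step**: a bound on the Euler characteristics of all twists forces invariance. -/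
theorem Φ_eq_zero_of_bound {e : ℕ} (h : Inv k X e) {F : X.Modules} (hF : Coh.IsCoh F)
    (hd : topologicalKrullDim (CohB1.support F) ≤ (e : ℕ)) {A : X.Modules} (hA : PicF.IsInvertible A) {b : ℤ}
    (hb : ∀ T : X.Modules, NT k T → Curv2.euler k X (CohB1.tensorMod T (CohB1.tensorMod A F)) ≤ b)
    {L : X.Modules} (hL : NT k L) : Φ k L F = 0 := by
  have hle : ∀ {T : X.Modules}, NT k T → Φ k T F ≤ 0 := fun {T} hT => by
    by_contra hpos
    push Not at hpos
    let c := b - Curv2.euler k X (CohB1.tensorMod A F)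
    have h1 := hb _ (hT.pow (c.toNat + 1))
    have h2 : Φ k (CohB1.tensorPow T (c.toNat + 1)) (CohB1.tensorMod A F) ≤ c := by
      simp only [Φ, c]; linarith
    rw [Φ_shift h (hT.pow _) hA hF hd, Φ_pow h hT hF hd] at h2
    have h3 : ((c.toNat + 1 : ℕ) : ℤ) * 1 ≤ ((c.toNat + 1 : ℕ) : ℤ) * Φ k T F :=
      mul_le_mul_of_nonneg_left hpos (by positivity)
    have := Int.self_le_toNat c
    push_cast at h2 h3
    linarith
  obtain ⟨ei⟩ := MiscFlat6.nonempty_dualIso hL.inv
  have hi := hL.inverse ei
  have h0 := Φ_congr (k := k) ei F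
  rw [Φ_unit, Φ_tensor, Φ_shift h hL hi.inv hF hd] at h0
  have := hle hL
  have := hle hi
  linarith

end NumTrivLib

end
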