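import Groth.Agent.FlatInjLib.FreeLocus
import Groth.Agent.S4652
import Groth.Agent.S7797
import Groth.Agent.CurvLib.StalkSum
import Groth.Prelude.Def_Pic13

/-!
# Families with an invertible member
-/

set_option autoImplicit false
set_option linter.style.haveILetI false
set_option maxHeartbeats 1000000
universe u

open CategoryTheory CategoryTheory.Limits AlgebraicGeometry TopologicalSpace Opposite
open KFlatLib (pb)

noncomputable section

namespace NumTrivLib

/-- A free module pulling back to an invertible one has rank one. -/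
theorem rank_eq_one {V : Scheme.{u}} (v : V) {n : ℕ} {L : V.Modules} (hL : PicF.IsInvertible L)
    (e : FlatMod.freeMod V n ≅ L) : n = 1 := by
  obtain ⟨a⟩ := CurvLib.nonempty_stalk_pi_of_locFree (CurvLib.locFree_of_isInvertible hL) v
  let b := ((DerSch.stalkFunctor V v).mapIso e ).toLinearEquiv
  let c := (KFlatLib.stalkFreeModIso V v n).toLinearEquiv
  have h := (c.symm ≪≫ₗ b ≪≫ₗ a).finrank_eq
  simpa using h

variable (k : Type u) [Field k] (X : Scheme.{u}) [X.Over (Spec (CommRingCat.of k))]
  {T : Scheme.{u}} (q : T ⟶ Spec (CommRingCat.of k)) (t : Spec (CommRingCat.of k) ⟶ T) (ht : t ≫ q = 𝟙 _)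

/-- The slice is the fibre. -/
theorem isPullback_slice : IsPullback (Pic13.sliceAt k X q t ht) (X ↘ Spec (CommRingCat.of k))
    (pullback.snd (X ↘ Spec (CommRingCat.of k)) q) t := by
  refine IsPullback.of_right ?_ (pullback.lift_snd _ _ _) (IsPullback.of_hasPullback _ q)
  rw [show Pic13.sliceAt k X q t ht ≫ pullback.fst _ q = 𝟙 X from pullback.lift_fst _ _ _, ht]
  exact IsPullback.id_horiz _

/-- A flat family is invertible near a fibre where it is invertible. -/
theorem exists_nhd_invertible (F : (Pic13.prodK k X q).Modules) (hF : CohB1.IsFP F)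
    (hfl : FlatMod.IsFlatOver (pullback.snd (X ↘ Spec (CommRingCat.of k)) q) F)
    {L : X.Modules} (hL : PicF.IsInvertible L) (e : Pic13.fibreMod k X q t ht F ≅ L) (x : X) :
    ∃ U : (Pic13.prodK k X q).Opens, Pic13.sliceAt k X q t ht x ∈ U ∧
      Nonempty (F.restrict U.ι ≅ Coh.structureModule (U : Scheme.{u})) := by
  let s := Pic13.sliceAt k X q t ht
  have hfree : Module.Free (X.presheaf.stalk x) (((Scheme.Modules.pullback s).obj F).presheaf.stalk x) := by
    obtain ⟨a⟩ := CurvLib.nonempty_stalk_pi_of_locFree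
      (CurvLib.locFree_of_isInvertible (HilbPolyLib.isInvertible_of_iso e.symm hL)) x
    haveI : Module.Free (X.presheaf.stalk x) ((DerSch.stalkFunctor X x).obj ((Scheme.Modules.pullback s).obj F)) :=
      Module.Free.of_equiv a.symm
    exact this
  have hf := (FlatInjLib.free_stalk_pullback_iff _ F hF hfl t _ s (isPullback_slice k X q t ht) x).mp hfree
  have hflat : FlatMod.IsFlatAt F (s x) := by
    haveI : Module.Free ((Pic13.prodK k X q).presheaf.stalk (s x)) (F.presheaf.stalk (s x)) := hf
    exact (Module.Flat.of_free : Module.Flat ((Pic13.prodK k X q).presheaf.stalk (s x)) (F.presheaf.stalk (s x)))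
  obtain ⟨U, hxU, n, ⟨i⟩⟩ := Groth.Agent.S4652.freeNear_of_fp hF (s x) hflat
  obtain rfl : n = 1 := by
    let j := (s ⁻¹ᵁ U).ι
    let g := s ∣_ U
    have hc : g ≫ U.ι = j ≫ s := morphismRestrict_ι s U
    refine rank_eq_one (V := (s ⁻¹ᵁ U).toScheme) ⟨x, hxU⟩ (AmpleDevLib.isInvertible_pb j hL)
      ((KFlatLib.pullFreeIso g n).symm ≪≫ (Scheme.Modules.pullback g).mapIso i.symm ≪≫
        (Scheme.Modules.pullbackComp g U.ι).app F ≪≫ (Scheme.Modules.pullbackCongr hc).app F ≪≫
        ((Scheme.Modules.pullbackComp j s).app F).symm ≪≫ (Scheme.Modules.pullback j).mapIso e)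
  refine ⟨U, hxU, ⟨(Scheme.Modules.restrictFunctorIsoPullback U.ι).app F ≪≫ i ≪≫
    { hom := Sigma.desc fun _ => 𝟙 _
      inv := Sigma.ι (fun _ : Fin 1 => Coh.structureModule (U : Scheme.{u})) 0
      hom_inv_id := Sigma.hom_ext _ _ fun i => by fin_cases i; simp
      inv_hom_id := Sigma.ι_desc _ _ }⟩⟩

end NumTrivLib

end
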