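import Groth.Agent.NumTrivLib.Basic
import Groth.Agent.MumfordLib.Induct
import Groth.Agent.ProjClosedImmLib.Main
import Groth.Agent.DevissLib.Filtration
import Groth.Agent.PushLinLib.HH
import Groth.Agent.ProjFormLib.Main

/-!
# Twists on projective space of numerically trivial families
-/

set_option autoImplicit false
set_option linter.style.haveILetI false
set_option maxHeartbeats 1000000
universe u

open CategoryTheory CategoryTheory.Limits AlgebraicGeometry TopologicalSpace Opposite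
open HilbPolyLib DevissLib IntMultLib IntFunLib
open KFlatLib (pb)

noncomputable section

namespace NumTrivLib

variable {n : ℕ} (k : Type u) [Field k] {X : Scheme.{u}} [X.Over (Spec (CommRingCat.of k))]
  [IsProper (X ↘ Spec (CommRingCat.of k))] (i : X ⟶ CohB1.ProjSpace n k) [IsClosedImmersion i]

local notation "P" => CohB1.ProjSpace n k
local notation "O'" => Twist.twistProjSpace n k
local notation "TL" => CurvLib.tensorLeft'

/-- The twist of a module on projective space. -/
abbrev tw (F : X.Modules) (j : ℤ) : (CohB1.ProjSpace n k).Modules :=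
  CohB1.tensorMod ((Coh.push i).obj F) (O' j)

/-- Dimensions of the cohomology of the twists. -/
abbrev hq (F : X.Modules) (q : ℕ) (j : ℤ) : ℕ := Module.finrank k (Coh.HH P (tw k i F j) q)

/-- The exact sequence of twists. -/
theorem exists_seq {S : ShortComplex X.Modules} (hS : S.ShortExact) (h₁ : Coh.IsCoh S.X₁) (h₂ : Coh.IsCoh S.X₂)
    (h₃ : Coh.IsCoh S.X₃) {T : X.Modules} (hT : PicF.IsInvertible T) (j : ℤ) :
    ∃ (f : tw k i (CohB1.tensorMod T S.X₁) j ⟶ tw k i (CohB1.tensorMod T S.X₂) j)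
      (g : tw k i (CohB1.tensorMod T S.X₂) j ⟶ tw k i (CohB1.tensorMod T S.X₃) j) (w : f ≫ g = 0),
      (ShortComplex.mk f g w).ShortExact := by
  haveI := ProjClosedImmLib.preservesHomology_push i
  have h := shortExact_tensor hT hS
  have hp := h.map_of_exact (Coh.push i)
  let U := ((S.map (TL T)).map (Coh.push i)).map (TL (O' j))
  have hU : U.ShortExact := shortExact_tensor (PicPnLib.twist_inv n k j) hp
  let e₁ : U.X₁ ≅ tw k i (CohB1.tensorMod T S.X₁) j := swapIso _ _
  let e₂ : U.X₂ ≅ tw k i (CohB1.tensorMod T S.X₂) j := swapIso _ _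
  let e₃ : U.X₃ ≅ tw k i (CohB1.tensorMod T S.X₃) j := swapIso _ _
  have w : (e₁.inv ≫ U.f ≫ e₂.hom) ≫ e₂.inv ≫ U.g ≫ e₃.hom = 0 := by
    simp only [Category.assoc, Iso.hom_inv_id_assoc, reassoc_of% U.zero, zero_comp, comp_zero]
  exact ⟨_, _, w, ShortComplex.shortExact_of_iso (ShortComplex.isoMk e₁ e₂ e₃ (by simp) (by simp)) hU⟩

theorem isCoh_push {F : X.Modules} (hF : Coh.IsCoh F) : Coh.IsCoh ((Coh.push i).obj F) := by
  haveI := MumfordLib.isProper_projSpace (n := n) k
  haveI := CurvLib.isNoetherian k (X := CohB1.ProjSpace n k)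
  exact QCohLib.isCoh_push_finite i F hF

theorem finite_tw {F : X.Modules} (hF : Coh.IsCoh F) (q : ℕ) (j : ℤ) :
    Module.Finite k (Coh.HH P (tw k i F j) q) :=
  PnCohLib.finite_twist k _ (isCoh_push k i hF) j q

section LES

variable {V : Scheme.{u}} [V.Over (Spec (CommRingCat.of k))] {S : ShortComplex V.Modules} (hS : S.ShortExact) (p : ℕ)

theorem finrank_le_add {A B C : Type u} [AddCommGroup A] [AddCommGroup B] [AddCommGroup C] [Module k A]
    [Module k B] [Module k C] [Module.Finite k A] [Module.Finite k B] [Module.Finite k C] (f : A →ₗ[k] B)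
    (g : B →ₗ[k] C) (h : LinearMap.range f = LinearMap.ker g) :
    Module.finrank k B ≤ Module.finrank k A + Module.finrank k C := by
  rw [← g.finrank_range_add_finrank_ker, ← h]
  have := LinearMap.finrank_range_le f
  have := Submodule.finrank_le (LinearMap.range g)
  omega

include hS in
theorem le₂ [Module.Finite k (Coh.HH V S.X₁ p)] [Module.Finite k (Coh.HH V S.X₂ p)] [Module.Finite k (Coh.HH V S.X₃ p)] :
    Module.finrank k (Coh.HH V S.X₂ p) ≤
      Module.finrank k (Coh.HH V S.X₁ p) + Module.finrank k (Coh.HH V S.X₃ p) :=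
  finrank_le_add k _ _ (CurvLib.exact₂ hS p)

include hS in
theorem le₁ [Module.Finite k (Coh.HH V S.X₁ (p + 1))] [Module.Finite k (Coh.HH V S.X₂ (p + 1))]
    [Module.Finite k (Coh.HH V S.X₃ p)] :
    Module.finrank k (Coh.HH V S.X₁ (p + 1)) ≤
      Module.finrank k (Coh.HH V S.X₃ p) + Module.finrank k (Coh.HH V S.X₂ (p + 1)) :=
  finrank_le_add k _ _ (CurvLib.exact₁ hS p)

include hS in
theorem le₁_zero [Module.Finite k (Coh.HH V S.X₂ 0)] :
    Module.finrank k (Coh.HH V S.X₁ 0) ≤ Module.finrank k (Coh.HH V S.X₂ 0) :=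
  LinearMap.finrank_le_finrank_of_injective (@CurvLib.injective₀ k _ V _ S hS)

end LES

theorem isZero_tensor_right {V : Scheme.{u}} (T F : V.Modules) (h : IsZero F) : IsZero (CohB1.tensorMod T F) :=
  Functor.map_isZero (CurvLib.tensorLeft' T) h

omit [X.Over (Spec (CommRingCat.of k))] [IsProper (X ↘ Spec (CommRingCat.of k))] [IsClosedImmersion i] in
theorem isZero_push (F : X.Modules) (h : IsZero F) : IsZero ((Coh.push i).obj F) :=
  Functor.map_isZero (Coh.push i) h

theorem isZero_tensor_left (F G : (CohB1.ProjSpace n k).Modules) (h : IsZero F) : IsZero (CohB1.tensorMod F G) :=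
  IsZero.of_iso (Functor.map_isZero (CurvLib.tensorLeft' G) h) (swapIso F G)

/-- Uniform regularity of the twists by numerically trivial modules. -/
def Reg (F : X.Modules) : Prop :=
  ∃ m : ℤ, ∀ T : X.Modules, NT k T → Curv2.IsMRegular k n ((Coh.push i).obj (CohB1.tensorMod T F)) m

/-- Uniform bounds for the cohomology of the twists by numerically trivial modules. -/
def Bdd (F : X.Modules) : Prop :=
  ∀ (q : ℕ) (j : ℤ), ∃ b : ℕ, ∀ T : X.Modules, NT k T → hq k i (CohB1.tensorMod T F) q j ≤ b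

/-- Both. -/
structure Good (F : X.Modules) : Prop where
  coh : Coh.IsCoh F
  reg : Reg k i F
  bdd : Bdd k i F

variable {k i}

theorem Good.van {F : X.Modules} (h : Good k i F) :
    ∃ m : ℤ, ∀ T, NT k T → ∀ q : ℕ, 1 ≤ q → ∀ j : ℤ, m - q ≤ j →
      Subsingleton (Coh.HH P (tw k i (CohB1.tensorMod T F) j) q) := by
  obtain ⟨m, hm⟩ := h.reg
  refine ⟨m, fun T hT q hq j hj => ?_⟩
  exact PnCohLib.vanishing_ge k _ (isCoh_push k i (isCoh_tensor hT.inv h.coh)).1 m (hm T hT) q hq j hj

theorem Good.iso {F G : X.Modules} (h : Good k i F) (e : F ≅ G) : Good k i G := by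
  refine ⟨QCohLib.isCoh_of_iso e h.coh, ?_, fun q j => ?_⟩
  · obtain ⟨m, hm⟩ := h.reg
    exact ⟨m, fun T hT a ha han => SerreVanLib.subsingleton_HH_of_iso
      (congrLeft ((Coh.push i).mapIso (congrRight T e.symm)) _) a (hm T hT a ha han)⟩
  · obtain ⟨b, hb⟩ := h.bdd q j
    refine ⟨b, fun T hT => ?_⟩
    rw [hq, (CurvLib.hIso (k := k) (congrLeft ((Coh.push i).mapIso (congrRight T e.symm)) (O' j)) q).finrank_eq]
    exact hb T hT

theorem Good.of_isZero {F : X.Modules} (h : IsZero F) : Good k i F := by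
  have hz : ∀ (T : X.Modules) (j : ℤ), IsZero (tw k i (CohB1.tensorMod T F) j) := fun T j =>
    isZero_tensor_left k _ _ (isZero_push k i _ (isZero_tensor_right _ _ h))
  refine ⟨DevissLib.isCoh_of_isZero h, ⟨0, fun T _ a _ _ => PnCohLib.subsingleton_HH_of_zero (hz T _) a⟩,
    fun q j => ⟨0, fun T _ => ?_⟩⟩
  haveI := PnCohLib.subsingleton_HH_of_zero (hz T j) q
  exact (Module.finrank_zero_of_subsingleton (R := k) (M := Coh.HH P (tw k i (CohB1.tensorMod T F) j) q)).le

/-- Extensions. -/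
theorem Good.ext {S : ShortComplex X.Modules} (hS : S.ShortExact) (h₂ : Coh.IsCoh S.X₂) (h1 : Good k i S.X₁)
    (h3 : Good k i S.X₃) : Good k i S.X₂ := by
  obtain ⟨m₁, v₁⟩ := h1.van
  obtain ⟨m₃, v₃⟩ := h3.van
  refine ⟨h₂, ⟨max m₁ m₃, fun T hT a ha _ => ?_⟩, fun q j => ?_⟩
  · obtain ⟨f, g, w, he⟩ := exists_seq k i hS h1.coh h₂ h3.coh hT.inv (max m₁ m₃ - a)
    haveI := v₁ T hT a ha (max m₁ m₃ - a) (by have := le_max_left m₁ m₃; omega)
    haveI := v₃ T hT a ha (max m₁ m₃ - a) (by have := le_max_right m₁ m₃; omega)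
    haveI : Module.Finite k (Coh.HH P (tw k i (CohB1.tensorMod T S.X₁) (max m₁ m₃ - a)) a) :=
      finite_tw k i (isCoh_tensor hT.inv h1.coh) _ _
    haveI := finite_tw k i (isCoh_tensor hT.inv h₂) a (max m₁ m₃ - a)
    haveI : Module.Finite k (Coh.HH P (tw k i (CohB1.tensorMod T S.X₃) (max m₁ m₃ - a)) a) :=
      finite_tw k i (isCoh_tensor hT.inv h3.coh) _ _
    have h := le₂ (k := k) he a
    simp only [Module.finrank_zero_of_subsingleton, Nat.le_zero, add_zero] at h
    exact (Module.finrank_zero_iff (R := k)).mp h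
  · obtain ⟨b₁, hb₁⟩ := h1.bdd q j
    obtain ⟨b₃, hb₃⟩ := h3.bdd q j
    refine ⟨b₁ + b₃, fun T hT => ?_⟩
    obtain ⟨f, g, w, he⟩ := exists_seq k i hS h1.coh h₂ h3.coh hT.inv j
    haveI := finite_tw k i (isCoh_tensor hT.inv h1.coh) q j
    haveI := finite_tw k i (isCoh_tensor hT.inv h₂) q j
    haveI := finite_tw k i (isCoh_tensor hT.inv h3.coh) q j
    exact (le₂ (k := k) he q).trans (Nat.add_le_add (hb₁ T hT) (hb₃ T hT))

end NumTrivLib

end
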