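import Groth.Agent.NumTrivLib.Transfer

/-!
# The inductive step
-/

set_option autoImplicit false
set_option linter.style.haveILetI false
set_option maxHeartbeats 1000000
universe u

open CategoryTheory CategoryTheory.Limits AlgebraicGeometry TopologicalSpace Opposite
open HilbPolyLib DevissLib IntMultLib IntFunLib
open KFlatLib (pb)

noncomputable section

namespace NumTrivLib

variable {n : ℕ} {k : Type u} [Field k] {X : Scheme.{u}} [X.Over (Spec (CommRingCat.of k))]
  [IsProper (X ↘ Spec (CommRingCat.of k))] (i : X ⟶ CohB1.ProjSpace n k) [IsClosedImmersion i]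

local notation "P" => CohB1.ProjSpace n k
local notation "O'" => Twist.twistProjSpace n k

/-- `F(0) ≅ F`. -/
def twZero (F : (CohB1.ProjSpace n k).Modules) : CohB1.tensorMod F (O' 0) ≅ F :=
  congrRight F (PicPnLib.twist_zero n k).some ≪≫ swapIso _ _ ≪≫ unitLeft F

theorem _root_.Curv2.IsMRegular.trans_le {G : (CohB1.ProjSpace n k).Modules} {m : ℤ} (h : Curv2.IsMRegular k n G m)
    (hG : Coh.IsQCoh G) {m' : ℤ} (hm : m ≤ m') : Curv2.IsMRegular k n G m' := fun a ha _ =>
  PnCohLib.vanishing_ge k G hG m h a ha (m' - a) (by omega)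

theorem isMRegular_congr {F G : (CohB1.ProjSpace n k).Modules} (e : F ≅ G) {m : ℤ}
    (h : Curv2.IsMRegular k n F m) : Curv2.IsMRegular k n G m := fun a ha han =>
  SerreVanLib.subsingleton_HH_of_iso (congrLeft e.symm (O' (m - (a : ℤ)))) a (h a ha han)

section Cut

variable {N C : X.Modules} {a : CohB1.tensorMod (pb i (Twist.twistProjSpace n k (-1 : ℤ))) N ⟶ N} {b : N ⟶ C} {w : a ≫ b = 0}
  (hS : (ShortComplex.mk a b w).ShortExact) (hN : Coh.IsCoh N) (hC : Coh.IsCoh C)

include hS hN hC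

/-- The twisted sequences. -/
theorem exists_seq_cut {T : X.Modules} (hT : NT k T) (d : ℤ) :
    ∃ (f : tw k i (CohB1.tensorMod T N) (d - 1) ⟶ tw k i (CohB1.tensorMod T N) d)
      (g : tw k i (CohB1.tensorMod T N) d ⟶ tw k i (CohB1.tensorMod T C) d) (w : f ≫ g = 0),
      (ShortComplex.mk f g w).ShortExact := by
  have hN' := isCoh_tensor (AmpleDevLib.isInvertible_pb i (PicPnLib.twist_inv n k (-1))) hN
  obtain ⟨f, g, w', he⟩ := exists_seq k i hS hN' hN hC hT.inv d
  obtain ⟨e⟩ := nonempty_tw_shift i (CohB1.tensorMod T N) d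
  let e₁ : tw k i (CohB1.tensorMod T (CohB1.tensorMod (pb i (O' (-1))) N)) d ≅
      tw k i (CohB1.tensorMod T N) (d - 1) :=
    congrLeft ((Coh.push i).mapIso (leftComm _ _ _)) _ ≪≫ e
  have hw : (e₁.inv ≫ f) ≫ g = 0 := by rw [Category.assoc, w', comp_zero]
  refine ⟨e₁.inv ≫ f, g, hw, ShortComplex.shortExact_of_iso (S₁ := ShortComplex.mk f g w')
    (ShortComplex.isoMk e₁ (Iso.refl _) (Iso.refl _) ?_ ?_) he⟩
  · exact (Iso.hom_inv_id_assoc e₁ f).trans (Category.comp_id f).symm
  · exact (Category.id_comp g).trans (Category.comp_id g).symm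

/-- The multiplication on projective space. -/
theorem exists_ι {T : X.Modules} (hT : NT k T) :
    ∃ ι : CohB1.tensorMod ((Coh.push i).obj (CohB1.tensorMod T N)) (O' (-1)) ⟶
        (Coh.push i).obj (CohB1.tensorMod T N),
      Mono ι ∧ Nonempty (cokernel ι ≅ (Coh.push i).obj (CohB1.tensorMod T C)) := by
  obtain ⟨f, g, w', he⟩ := exists_seq_cut i hS hN hC hT 0
  let e₂ := twZero (n := n) (k := k) ((Coh.push i).obj (CohB1.tensorMod T N))
  let e₃ := twZero (n := n) (k := k) ((Coh.push i).obj (CohB1.tensorMod T C))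
  let f' : CohB1.tensorMod ((Coh.push i).obj (CohB1.tensorMod T N)) (O' (-1)) ⟶
      tw k i (CohB1.tensorMod T N) 0 :=
    (congrRight _ (eqToIso (by rw [zero_sub]))).hom ≫ f
  haveI : Mono f := he.mono_f
  haveI : Mono f' := mono_comp _ _
  refine ⟨f' ≫ e₂.hom, mono_comp _ _, ⟨?_⟩⟩
  exact cokernelCompIsIso f' e₂.hom ≪≫ cokernelEpiComp (f := (congrRight _ (eqToIso (by rw [zero_sub]))).hom) (g := f) ≪≫
    (cokernelIsCokernel f).coconePointUniqueUpToIso he.gIsCokernel ≪≫ e₃

/-- The cohomological consequences of a good cut. -/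
theorem exists_bounds (hG : Good k i C) :
    ∃ m : ℤ, 1 ≤ m ∧ ∀ T : X.Modules, NT k T →
      ∃ ι : CohB1.tensorMod ((Coh.push i).obj (CohB1.tensorMod T N)) (O' (-1)) ⟶
          (Coh.push i).obj (CohB1.tensorMod T N),
        Mono ι ∧ Curv2.IsMRegular k n (cokernel ι) m := by
  obtain ⟨m, hm⟩ := hG.reg
  refine ⟨max m 1, le_max_right _ _, fun T hT => ?_⟩
  obtain ⟨ι, hι, ⟨e⟩⟩ := exists_ι i hS hN hC hT
  exact ⟨ι, hι, isMRegular_congr e.symm ((hm T hT).trans_le (isCoh_push k i (isCoh_tensor hT.inv hC)).1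
    (le_max_left m 1))⟩

theorem h0_mono {T : X.Modules} (hT : NT k T) (d : ℤ) :
    hq k i (CohB1.tensorMod T N) 0 (d - 1) ≤ hq k i (CohB1.tensorMod T N) 0 d := by
  obtain ⟨f, g, w', he⟩ := exists_seq_cut i hS hN hC hT d
  haveI := finite_tw k i (isCoh_tensor hT.inv hN) 0 d
  haveI : Module.Finite k (Coh.HH P (ShortComplex.mk f g w').X₂ 0) := this
  exact le₁_zero k (S := ShortComplex.mk f g w') he

theorem h0_step {T : X.Modules} (hT : NT k T) (d : ℤ) :
    hq k i (CohB1.tensorMod T N) 0 d ≤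
      hq k i (CohB1.tensorMod T N) 0 (d - 1) + hq k i (CohB1.tensorMod T C) 0 d := by
  obtain ⟨f, g, w', he⟩ := exists_seq_cut i hS hN hC hT d
  haveI := finite_tw k i (isCoh_tensor hT.inv hN) 0 d
  haveI := finite_tw k i (isCoh_tensor hT.inv hN) 0 (d - 1)
  haveI := finite_tw k i (isCoh_tensor hT.inv hC) 0 d
  haveI : Module.Finite k (Coh.HH P (ShortComplex.mk f g w').X₁ 0) := finite_tw k i (isCoh_tensor hT.inv hN) 0 (d - 1)
  haveI : Module.Finite k (Coh.HH P (ShortComplex.mk f g w').X₂ 0) := finite_tw k i (isCoh_tensor hT.inv hN) 0 d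
  haveI : Module.Finite k (Coh.HH P (ShortComplex.mk f g w').X₃ 0) := finite_tw k i (isCoh_tensor hT.inv hC) 0 d
  exact le₂ k (S := ShortComplex.mk f g w') he 0

theorem hq_step {T : X.Modules} (hT : NT k T) (q : ℕ) (d : ℤ) :
    hq k i (CohB1.tensorMod T N) (q + 1) (d - 1) ≤
      hq k i (CohB1.tensorMod T C) q d + hq k i (CohB1.tensorMod T N) (q + 1) d := by
  obtain ⟨f, g, w', he⟩ := exists_seq_cut i hS hN hC hT d
  haveI := finite_tw k i (isCoh_tensor hT.inv hN) (q + 1) d
  haveI := finite_tw k i (isCoh_tensor hT.inv hN) (q + 1) (d - 1)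
  haveI := finite_tw k i (isCoh_tensor hT.inv hC) q d
  haveI : Module.Finite k (Coh.HH P (ShortComplex.mk f g w').X₁ (q + 1)) :=
    finite_tw k i (isCoh_tensor hT.inv hN) (q + 1) (d - 1)
  haveI : Module.Finite k (Coh.HH P (ShortComplex.mk f g w').X₂ (q + 1)) := finite_tw k i (isCoh_tensor hT.inv hN) (q + 1) d
  haveI : Module.Finite k (Coh.HH P (ShortComplex.mk f g w').X₃ q) := finite_tw k i (isCoh_tensor hT.inv hC) q d
  exact le₁ k (S := ShortComplex.mk f g w') he q

/-- Global sections of all twists are bounded. -/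
theorem exists_h0_bound (hG : Good k i C)
    (h0 : ∀ T : X.Modules, NT k T → hq k i (CohB1.tensorMod T N) 0 (-1) = 0) (d : ℤ) :
    ∃ c : ℕ, ∀ T : X.Modules, NT k T → hq k i (CohB1.tensorMod T N) 0 d ≤ c := by
  have hpos : ∀ j : ℕ, ∃ c : ℕ, ∀ T : X.Modules, NT k T → hq k i (CohB1.tensorMod T N) 0 ((j : ℤ) - 1) ≤ c := by
    intro j
    induction j with
    | zero => exact ⟨0, fun T hT => by simpa using (h0 T hT).le⟩
    | succ j ih =>
      obtain ⟨c, hc⟩ := ih
      obtain ⟨c', hc'⟩ := hG.bdd 0 j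
      refine ⟨c + c', fun T hT => ?_⟩
      rw [show ((j + 1 : ℕ) : ℤ) - 1 = (j : ℤ) by push_cast; ring]
      exact (h0_step i hS hN hC hT j).trans (Nat.add_le_add (hc T hT) (hc' T hT))
  rcases le_or_gt 0 (d + 1) with h | h
  · obtain ⟨c, hc⟩ := hpos (d + 1).toNat
    exact ⟨c, fun T hT => by simpa [Int.toNat_of_nonneg h] using hc T hT⟩
  · refine ⟨0, fun T hT => ?_⟩
    have : ∀ e : ℕ, hq k i (CohB1.tensorMod T N) 0 (-1 - e) = 0 := by
      intro e
      induction e with
      | zero => simpa using h0 T hT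
      | succ e ih =>
        have := h0_mono i hS hN hC hT (-1 - (e : ℤ))
        rw [show -1 - ((e + 1 : ℕ) : ℤ) = -1 - (e : ℤ) - 1 by push_cast; ring]
        omega
    have h' := this (-1 - d).toNat
    rw [Int.toNat_of_nonneg (by omega), sub_sub_cancel] at h'
    exact h'.le

/-- Higher cohomology of all twists is bounded. -/
theorem exists_hq_bound (hG : Good k i C) {M : ℤ}
    (hv : ∀ T : X.Modules, NT k T → ∀ q : ℕ, 1 ≤ q → ∀ d : ℤ, M ≤ d →
      Subsingleton (Coh.HH P (tw k i (CohB1.tensorMod T N) d) q)) (q : ℕ) (d : ℤ) :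
    ∃ c : ℕ, ∀ T : X.Modules, NT k T → hq k i (CohB1.tensorMod T N) (q + 1) d ≤ c := by
  suffices ∀ (e : ℕ) (d : ℤ), M ≤ d + e →
      ∃ c : ℕ, ∀ T : X.Modules, NT k T → hq k i (CohB1.tensorMod T N) (q + 1) d ≤ c from
    this (M - d).toNat d (by omega)
  intro e
  induction e with
  | zero =>
    intro d hd
    refine ⟨0, fun T hT => ?_⟩
    haveI := hv T hT (q + 1) (by omega) d (by simpa using hd)
    exact (Module.finrank_zero_of_subsingleton (R := k) (M := Coh.HH P (tw k i (CohB1.tensorMod T N) d) (q + 1))).le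
  | succ e ih =>
    intro d hd
    obtain ⟨c, hc⟩ := ih (d + 1) (by push_cast at hd; omega)
    obtain ⟨c', hc'⟩ := hG.bdd q (d + 1)
    refine ⟨c' + c, fun T hT => ?_⟩
    have := hq_step i hS hN hC hT q (d + 1)
    rw [add_sub_cancel_right] at this
    exact this.trans (Nat.add_le_add (hc' T hT) (hc T hT))

end Cut

variable (hi : i ≫ CohB1.ProjSpace.toSpec n k = X ↘ Spec (CommRingCat.of k))

include hi in
/-- The step for a submodule of the direct image of an integral scheme. -/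
theorem step {Z : Scheme.{u}} [IsIntegral Z] (j : Z ⟶ X) [IsClosedImmersion j] {N : X.Modules}
    (u : N ⟶ (Coh.push j).obj (Coh.structureModule Z)) [Mono u] (hN : Coh.IsCoh N) {e : ℕ}
    (hd : topologicalKrullDim (closure ({j (genericPoint Z)} : Set X)) = ((e + 1 : ℕ) : WithBot ℕ∞))
    (hI : Inv k X (e + 1))
    (hG : ∀ M : X.Modules, Coh.IsCoh M → topologicalKrullDim (CohB1.support M) < ((e + 1 : ℕ) : WithBot ℕ∞) →
      Good k i M) :
    Good k i N ∧ ∀ T : X.Modules, NT k T → Φ k T N = 0 := by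
  haveI := CurvLib.isNoetherian k (X := X)
  obtain ⟨a, ha, hC, hCd⟩ := exists_cut i j u hN hd
  haveI := ha
  have hS : (ShortComplex.mk a (cokernel.π a) (cokernel.condition a)).ShortExact :=
    ShortComplex.ShortExact.mk (ShortComplex.exact_cokernel a)
  have hgC := hG _ hC hCd
  obtain ⟨m, hm1, hm⟩ := exists_bounds i hS hN hC hgC
  have hW : Coh.IsCoh ((Coh.push j).obj (Coh.structureModule Z)) :=
    QCohLib.isCoh_push_finite j _ (DevissLib.isCoh_structureModule Z)
  have h0 : ∀ T : X.Modules, NT k T → hq k i (CohB1.tensorMod T N) 0 (-1) = 0 := fun T hT => by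
    haveI := hW.1
    have hu : (ShortComplex.mk u (cokernel.π u) (cokernel.condition u)).ShortExact :=
      ShortComplex.ShortExact.mk (ShortComplex.exact_cokernel u)
    obtain ⟨f, g, w, he⟩ := exists_seq k i hu hN hW (QCohLib.isCoh_cokernel u hN.1 hW) hT.inv (-1)
    haveI := finite_tw k i (isCoh_tensor hT.inv hW) 0 (-1)
    haveI := subsingleton_neg i j hd hT
    haveI : Module.Finite k (Coh.HH P (ShortComplex.mk f g w).X₂ 0) := finite_tw k i (isCoh_tensor hT.inv hW) 0 (-1)
    have h := le₁_zero k (S := ShortComplex.mk f g w) he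
    simp only [Module.finrank_zero_of_subsingleton, Nat.le_zero] at h
    exact h
  have hsupp : topologicalKrullDim (CohB1.support N) ≤ ((e + 1 : ℕ) : WithBot ℕ∞) := by
    refine (dim_mono ((support_mono u).trans ((DevissLib.support_push_subset j _).trans ?_))).trans hd.le
    rintro _ ⟨z, rfl⟩
    exact specializes_iff_mem_closure.mp
      (((genericPoint_spec Z).specializes trivial).map j.continuous)
  -- the cohomology in degrees at least two
  have hv2 : ∀ T : X.Modules, NT k T → ∀ q : ℕ, 2 ≤ q → ∀ d : ℤ, m - q ≤ d →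
      Subsingleton (Coh.HH P (tw k i (CohB1.tensorMod T N) d) q) := fun T hT q hq d hdq => by
    obtain ⟨ι, hι, hr⟩ := hm T hT
    haveI := hι
    exact PnCohLib.vanishing_two k _ ι (isCoh_push k i (isCoh_tensor hT.inv hN)) m hr q hq d hdq
  obtain ⟨c, hc⟩ := exists_h0_bound i hS hN hC hgC h0 (m - 1)
  let A := pb i (O' (m - 1))
  have hA : PicF.IsInvertible A := AmpleDevLib.isInvertible_pb i (PicPnLib.twist_inv n k _)
  have hχ : ∀ T : X.Modules, NT k T → Curv2.euler k X (CohB1.tensorMod T (CohB1.tensorMod A N)) =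
      (hq k i (CohB1.tensorMod T N) 0 (m - 1) : ℤ) - (hq k i (CohB1.tensorMod T N) 1 (m - 1) : ℤ) := fun T hT => by
    rw [CurvLib.euler_congr (leftComm T A N)]
    exact euler_eq_two i hi (isCoh_tensor hT.inv hN) (m - 1) fun q hq => hv2 T hT q hq _ (by omega)
  have hΦ : ∀ T : X.Modules, NT k T → Φ k T N = 0 := fun T hT =>
    Φ_eq_zero_of_bound hI hN hsupp hA (b := c) (fun T' hT' => by
      rw [hχ T' hT']
      have := hc T' hT'
      omega) hT
  let χ₀ := Curv2.euler k X (CohB1.tensorMod A N)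
  let B := ((c : ℤ) - χ₀).toNat
  have hv1 : ∀ T : X.Modules, NT k T →
      Subsingleton (Coh.HH P (tw k i (CohB1.tensorMod T N) (m - 1 + B)) 1) := fun T hT => by
    obtain ⟨ι, hι, hr⟩ := hm T hT
    haveI := hι
    have hb := PnCohLib.h1_bound k _ ι (isCoh_push k i (isCoh_tensor hT.inv hN)) m hr B
    haveI := finite_tw k i (isCoh_tensor hT.inv hN) 1 (m - 1 + B)
    rw [← Module.finrank_zero_iff (R := k)]
    have h1 := hχ T hT
    have h2 : Φ k T (CohB1.tensorMod A N) = 0 := (Φ_shift hI hT hA hN hsupp).trans (hΦ T hT)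
    simp only [Φ] at h2
    have h3 := hc T hT
    unfold PnCohLib.h1 at hb
    change hq k i (CohB1.tensorMod T N) 1 (m - 1 + B) ≤ hq k i (CohB1.tensorMod T N) 1 (m - 1) - B at hb
    change hq k i (CohB1.tensorMod T N) 1 (m - 1 + B) = 0
    omega
  have hreg : ∀ T : X.Modules, NT k T → Curv2.IsMRegular k n ((Coh.push i).obj (CohB1.tensorMod T N)) (m + B) := by
    intro T hT q hq _
    rcases Nat.lt_or_ge q 2 with h | h
    · obtain rfl : q = 1 := by omega
      have := hv1 T hT
      rwa [show m + (B : ℤ) - ((1 : ℕ) : ℤ) = m - 1 + B by push_cast; ring]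
    · exact hv2 T hT q h _ (by omega)
  refine ⟨⟨hN, ⟨m + B, hreg⟩, fun q d => ?_⟩, hΦ⟩
  rcases q with _ | q
  · exact exists_h0_bound i hS hN hC hgC h0 d
  · refine exists_hq_bound i hS hN hC hgC (M := m + B) (fun T hT q hq d hd' => ?_) q d
    exact PnCohLib.vanishing_ge k _ (isCoh_push k i (isCoh_tensor hT.inv hN)).1 (m + B) (hreg T hT) q hq d (by omega)

end NumTrivLib

end
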