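import Groth.Agent.NumTrivLib.Basic
import Groth.Agent.HodgeIdxLib.Light
import Groth.Agent.AssPointLib.Push
import Groth.Agent.AssPointLib.Tilde
import Groth.Agent.DevissLib.Filtration

/-!
# Numerical triviality on subschemes
-/

set_option autoImplicit false
set_option linter.style.haveILetI false
set_option maxHeartbeats 1000000
universe u

open CategoryTheory CategoryTheory.Limits AlgebraicGeometry TopologicalSpace Opposite
open HilbPolyLib DevissLib IntMultLib IntFunLib
open KFlatLib (pb)

noncomputable section

namespace NumTrivLib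

variable {k : Type u} [Field k] {X : Scheme.{u}} [X.Over (Spec (CommRingCat.of k))]
  [IsProper (X ↘ Spec (CommRingCat.of k))]

theorem NT.nef {L : X.Modules} (hL : NT k L) : Nef k L :=
  nef_of_cd fun C hi hC => (hL.deg C hi hC).ge

/-- Numerical triviality is preserved by pullback. -/
theorem NT.pullback {Y : Scheme.{u}} [Y.Over (Spec (CommRingCat.of k))] [IsProper (Y ↘ Spec (CommRingCat.of k))]
    {g : Y ⟶ X} (hg : g ≫ (X ↘ Spec (CommRingCat.of k)) = Y ↘ Spec (CommRingCat.of k))
    {L : X.Modules} (hL : NT k L) : NT k (pb g L) := by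
  have hI := AmpleDevLib.isInvertible_pb g hL.inv
  refine ⟨hI, fun C hi hC => ?_⟩
  obtain ⟨ei⟩ := MiscFlat6.nonempty_dualIso hL.inv
  have hL' := hL.inverse ei
  haveI := KFlatLib.isIso_pullθ g L (MiscFlat6.dual L)
  let e : CohB1.tensorMod (pb g L) (pb g (MiscFlat6.dual L)) ≅ Coh.structureModule Y :=
    (@asIso _ _ _ _ (KFlatLib.pullθ g L (MiscFlat6.dual L)) this).symm ≪≫
      (Scheme.Modules.pullback g).mapIso ei ≪≫ KFlatLib.pullUnitIso g
  haveI := hi
  let η := C.subschemeι (genericPoint C.subscheme)
  have hη : topologicalKrullDim (closure ({η} : Set Y)) = ((1 : ℕ) : WithBot ℕ∞) := by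
    rw [Nat.cast_one, ← hC]; exact dim_generic_of_support C
  have key : ∀ M : X.Modules, NT k M → 0 ≤ cd k (pb g M) C := fun M hM => by
    rw [eq_ptIdeal C, ← N_singleton]
    exact Nef.pullback hg hM.inv hM.nef η hη
  have h1 := key L hL
  have h2 := key _ hL'
  have h3 := cd_tensor (k := k) hI (AmpleDevLib.isInvertible_pb g hL'.inv) hC
  rw [cd_congr e, cd_unit] at h3
  omega

/-- A numerically trivial twist of a negative bundle has no sections. -/
theorem eq_zero_of_negative [IsIntegral X] {e : ℕ} (hX : topologicalKrullDim X = ((e + 1 : ℕ) : WithBot ℕ∞))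
    {H H' T : X.Modules} (hH : CohB1.IsAmple H) (eH : CohB1.tensorMod H H' ≅ Coh.structureModule X)
    (hT : NT k T) (φ : Coh.structureModule X ⟶ CohB1.tensorMod T H') : φ = 0 := by
  by_contra hφ
  haveI := CurvLib.isNoetherian k (X := X)
  have hH' := IntMultLib.isInvertible_of_inverse hH.1 eH
  have hA := isInvertible_tensor hT.inv hH'
  have hO := DevissLib.isCoh_structureModule X
  obtain ⟨hC, hCd⟩ := HodgeIdxLib.dim_cokernel_le k hX hA hφ
  let l := List.replicate e H
  have hl : ∀ A ∈ l, PicF.IsInvertible A := fun A h => by rw [List.eq_of_mem_replicate h]; exact hH.1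
  have hOd : topologicalKrullDim (CohB1.support (Coh.structureModule X)) ≤ ((l.length + 1 : ℕ) : WithBot ℕ∞) :=
    (topologicalKrullDim_subspace_le _ _).trans (by rw [List.length_replicate, hX])
  have h1 : 0 ≤ N k l (cokernel φ) := N_nonneg hl hC (by rw [List.length_replicate]; exact hCd)
    fun ξ _ hξ => by
      rw [List.length_replicate] at hξ
      exact (N_ample_pos hH hξ).le
  have h2 := N_add (k := k) hl (HodgeIdxLib.cokSeq_shortExact hA hφ) hO (CurvLib.isCoh_of_isInvertible hA) hC
  change N k l (CohB1.tensorMod T H') = N k l (Coh.structureModule X) + N k l (cokernel φ) at h2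
  have h3 := HodgeIdxLib.N_unit (k := k) l (CohB1.tensorMod T H')
  rw [N_tensor hl hT.inv hH' hO hOd, N_cons_zero hT hl hO hOd] at h3
  have h4 := N_tensor (k := k) hl hH.1 hH' hO hOd
  have h5 : N k (CohB1.tensorMod H H' :: l) (Coh.structureModule X) = 0 := by
    rw [HodgeIdxLib.N_unit, N_congr l eH, sub_self]
  have h6 : 0 < N k (List.replicate (e + 1) H) (Coh.structureModule X) := by
    rw [N_structure (fun A h => by rw [List.eq_of_mem_replicate h]; exact hH.1)
      (by rw [List.length_replicate, hX])]
    exact N_ample_pos hH (by rw [dim_closure_generic, hX])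
  rw [List.replicate_succ] at h6
  change 0 < N k (H :: l) (Coh.structureModule X) at h6
  omega

omit [X.Over (Spec (CommRingCat.of k))] [IsProper (X ↘ Spec (CommRingCat.of k))] in
/-- The only weakly associated point of the direct image of an integral scheme. -/
theorem weak_push_generic {Z : Scheme.{u}} [IsIntegral Z] (j : Z ⟶ X) [IsClosedImmersion j] {x : X}
    (hx : Curv2.IsWeakAssPoint ((Coh.push j).obj (Coh.structureModule Z)) x) : x = j (genericPoint Z) := by
  haveI : Coh.IsQCoh (Coh.structureModule Z) := QCohLib.isQCoh_unit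
  obtain ⟨z, rfl, hz⟩ := AssPointLib.exists_of_weak_push j (Coh.structureModule Z) hx
  rw [(AssPointLib.weak_structureModule_of_isReduced z).mp hz (genericPoint Z)
    ((genericPoint_spec Z).specializes trivial)]

omit [X.Over (Spec (CommRingCat.of k))] [IsProper (X ↘ Spec (CommRingCat.of k))] in
/-- The only weakly associated point of a submodule. -/
theorem weak_sub {Z : Scheme.{u}} [IsIntegral Z] (j : Z ⟶ X) [IsClosedImmersion j] {N : X.Modules}
    (u : N ⟶ (Coh.push j).obj (Coh.structureModule Z)) [Mono u] {x : X}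
    (hx : Curv2.IsWeakAssPoint N x) : x = j (genericPoint Z) :=
  weak_push_generic j ((AssPointLib.weak_shortExact
    (S := ShortComplex.mk u (cokernel.π u) (cokernel.condition u))
    (ShortComplex.ShortExact.mk (ShortComplex.exact_cokernel u))).2 hx)

end NumTrivLib

end
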